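import Groth.Agent.SubExtLib.Ideals
import Groth.Agent.AlgSpLib.MorPack

/-!
# Closed subspaces are limits of closed subspaces of finite presentation
-/

set_option autoImplicit false
set_option backward.isDefEq.respectTransparency false
set_option backward.isDefEq.respectTransparency.types false
universe u
open CategoryTheory CategoryTheory.Limits AlgebraicGeometry Opposite AlgSp TopologicalSpace
open ModEtQc

noncomputable section

namespace SubExt

variable {S : Scheme.{u}} {X : Sp S}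

theorem exists_factor {Z A : Sp S} (i : Z ⟶ X) [Mono i] (h : A ⟶ X)
    (hp : ∀ (T : Over S) (a : (yon S).obj T ⟶ A), ∃ k, k ≫ i = a ≫ h) : ∃ k : A ⟶ Z, k ≫ i = h := by
  haveI : IsIso (pullback.snd i h) := AlgSpLib.isIso_of_bijective fun T =>
    ⟨fun a b e => (cancel_mono (pullback.snd i h)).1 e, fun a => by
      obtain ⟨k, hk⟩ := hp T a
      exact ⟨pullback.lift k a hk, pullback.lift_snd _ _ _⟩⟩
  exact ⟨inv (pullback.snd i h) ≫ pullback.fst i h, by
    rw [Category.assoc, pullback.condition, IsIso.inv_hom_id_assoc]⟩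

theorem isFinitePresentationMor_of_ideal {Z : Sp S} (hZ : IsAlgSpace Z) (hX : IsAlgSpace X) {i : Z ⟶ X}
    (hi : RepWith @IsClosedImmersion i)
    (hfg : ∀ (E : EtOver X) (hE : IsAffine E.obj.left.left), ((idealOfRep hi.1).ideal E hE).FG) :
    IsFinitePresentationMor i := by
  haveI := AlgSpRegLib.mono_of_closedImmersion hi
  refine ⟨(AlgSpRegLib.locP_lfp_iff hX hi).2 hfg, (AlgSpLib.repWith_quasiCompact_iff hZ hX hi.1).1
    (AlgSpLib.repWith_mono (fun _ _ g (_ : IsClosedImmersion g) => (inferInstance : QuasiCompact g)) hi), ?_⟩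
  exact AlgSpLib.isQuasiSeparatedMor_of_isSeparatedMor (AlgSpLib.repWith_of_isIso (pullback.diagonal i))

/-- The finitely generated ideals below the ideal of a closed subspace. -/
theorem exists_ideal_family [QuasiSeparatedSpace ↥S] (hX : IsAlgSpace X) (hqc : IsQuasiCompactSp X)
    (hqs : IsQuasiSeparatedSp X) {Z₀ : Sp S} (hZ₀ : IsAlgSpace Z₀) {f : Z₀ ⟶ X} (hf : RepWith @IsClosedImmersion f)
    (EV : EtOver X) (hEV : IsAffine EV.obj.left.left) :
    ∃ J : Finset ↥((idealOfRep hf.1).ideal EV hEV) → IdealEt X, (∀ s, (J s).IsQCoh) ∧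
      (∀ s (E : EtOver X) (hE : IsAffine E.obj.left.left), ((J s).ideal E hE).FG) ∧
      (∀ s, J s ≤ idealOfRep hf.1) ∧ (∀ s s', s ⊆ s' → J s ≤ J s') ∧ ∀ b, b.1 ∈ (J {b}).ideal EV hEV := by
  classical
  haveI := hEV
  obtain ⟨F, ι, hι, hF, hr⟩ := exists_ideal_module hZ₀ hX hf
  haveI := hι
  have hone : ∀ b : ↥((idealOfRep hf.1).ideal EV hEV), ∃ P : Sub F Set.univ,
      (show sec (unitMod X) EV from upΓ EV b.1) ∈ (P.map ι).P EV := fun b => by
    obtain ⟨t, ht⟩ : (show sec (unitMod X) EV from upΓ EV b.1) ∈ Set.range (appS ι EV) :=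
      (hr EV hEV).ge (show (fn EV (show sec (unitMod X) EV from upΓ EV b.1)).down ∈ (idealOfRep hf.1).ideal EV hEV from b.2)
    obtain ⟨P, hP⟩ := exists_sub_mem hX hqc hqs F hF EV t
    exact ⟨P, t, hP, ht⟩
  choose Q hQ using hone
  let Qs : Finset ↥((idealOfRep hf.1).ideal EV hEV) → Sub F Set.univ := fun s =>
    { P := fun E => s.sup fun b => (Q b).P E
      fg := fun E hE hb => Submodule.fg_finset_sup s _ fun b _ => (Q b).fg E hE hb
      span := fun E E' g hE hE' hb => by
        induction s using Finset.induction_on with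
        | empty =>
          rw [Finset.sup_empty, Finset.sup_empty]
          exact (Sub.zero F Set.univ).span E E' g hE hE' hb
        | insert b s hbs ih => rw [Finset.sup_insert, Finset.sup_insert, spanPull_sup, ih, (Q b).span E E' g hE hE' hb] }
  refine ⟨fun s => ((Qs s).map ι).ideal, fun s => Sub.ideal_qcoh _, fun s => Sub.ideal_fg _,
    fun s E hE a ha => ?_, fun s s' h E hE a ha => Submodule.map_mono (Finset.sup_mono h) ha,
    fun b => Submodule.map_mono (Finset.le_sup (f := fun b => (Q b).P EV) (Finset.mem_singleton_self b)) (hQ b)⟩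
  obtain ⟨t, -, ht⟩ := (ha : (show sec (unitMod X) E from upΓ E a) ∈ ((Qs s).P E).map (appS ι E))
  exact (hr E hE).le ⟨t, ht⟩

/-- A morphism from a scheme killed by the generators factors through the closed subspace. -/
theorem factor_of_family (hX : IsAlgSpace X) {Z₀ : Sp S} {f : Z₀ ⟶ X} (hf : RepWith @IsClosedImmersion f)
    {V : Over S} (p : (yon S).obj V ⟶ X) (hp : RepWith @Etale p) (hps : RepWith @Surjective p) (hV : IsAffine V.left)
    {T : Over S} (h : (yon S).obj T ⟶ X)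
    (hb : ∀ b : ↥((idealOfRep hf.1).ideal (EtOver.mk p hp) hV), ∃ (Z : Sp S) (i : Z ⟶ X) (hi : RepWith @IsClosedImmersion i),
      b.1 ∈ (idealOfRep hi.1).ideal (EtOver.mk p hp) hV ∧ ∃ k, k ≫ i = h) : ∃ k, k ≫ f = h := by
  let EV := EtOver.mk p hp
  haveI hEV : IsAffine EV.obj.left.left := hV
  haveI := AlgSpRegLib.mono_of_closedImmersion hf
  have hh : Representable h := hX.representable_from_yon _
  have sq := hh.isPullback p
  haveI : Sheaf.IsLocallySurjective (hh.fst p) :=
    AlgSpRegLib.locSurj_of_atlas (AlgSpLib.repWith_of_isPullback sq.flip hp)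
      (AlgSpLib.repWith_of_isPullback sq.flip hps)
  let g := hh.snd p
  haveI : IsClosedImmersion (EtOver.bcπ hf.1 EV).left := hf.property _ _ _ (EtOver.isPullback_bcObj hf.1 EV)
  have hker : ∀ b : ↥((idealOfRep hf.1).ideal EV hEV), g.left.appTop.hom b.1 = 0 := fun b => by
    obtain ⟨Z, i, hi, hmem, k, hk⟩ := hb b
    obtain ⟨m, hm⟩ := (yon S).map_surjective ((EtOver.isPullback_bcObj hi.1 EV).lift
      (hh.fst p ≫ k) ((yon S).map g) (by rw [Category.assoc, hk]; exact sq.w))
    have hm2 : m ≫ EtOver.bcπ hi.1 EV = g := (yon S).map_injective (by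
      rw [Functor.map_comp, hm, IsPullback.lift_snd])
    rw [← hm2, Over.comp_left, Scheme.Hom.comp_appTop, CommRingCat.comp_apply]
    exact (congrArg (m.left.appTop.hom) ((mem_idealOfRep_iff hi.1 EV hEV b.1).1 hmem)).trans (map_zero _)
  have hle : (EtOver.bcπ hf.1 EV).left.ker ≤ g.left.ker := by
    unfold Scheme.Hom.ker
    rw [Scheme.IdealSheafData.le_ofIdeals_iff]
    intro W
    change (EtOver.bcπ hf.1 EV).left.ker.ideal W ≤ RingHom.ker (g.left.app W.1).hom
    rw [← Scheme.IdealSheafData.map_ideal (EtOver.bcπ hf.1 EV).left.ker (U := W)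
      (V := ⟨⊤, isAffineOpen_top _⟩) (le_top (a := W.1)), Ideal.map_le_iff_le_comap, AlgSpRegLib.ideal_ker_top]
    intro x hx
    rw [Ideal.mem_comap, RingHom.mem_ker]
    refine (ConcreteCategory.congr_hom (g.left.naturality (homOfLE (le_top : W.1 ≤ ⊤)).op) x).trans ?_
    exact (congrArg ((hh.pullback p).left.presheaf.map _).hom
      (hker ⟨x, (mem_idealOfRep_iff hf.1 EV hEV x).2 hx⟩)).trans (map_zero _)
  let l : hh.pullback p ⟶ (EtOver.bcObj hf.1 EV).obj.left :=
    Over.homMk (IsClosedImmersion.lift (EtOver.bcπ hf.1 EV).left g.left hle) (by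
      rw [← Over.w (EtOver.bcπ hf.1 EV), IsClosedImmersion.lift_fac_assoc]
      exact Over.w g)
  have hl : l ≫ EtOver.bcπ hf.1 EV = g := Over.OverMorphism.ext (IsClosedImmersion.lift_fac _ _ _)
  refine AlgSpRegLib.factor_of_cover f (hh.fst p) _ ((yon S).map l ≫ (EtOver.bcObj hf.1 EV).obj.hom) ?_
  rw [Category.assoc, (EtOver.isPullback_bcObj hf.1 EV).w, ← Category.assoc, ← Functor.map_comp, hl]
  exact sq.w.symm

section Diagram

variable {I : Type u} [Preorder I] (Z : I → Sp S) (i : ∀ s, Z s ⟶ X) [∀ s, Mono (i s)]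
  (k : ∀ s s', s ≤ s' → (Z s' ⟶ Z s)) (hk : ∀ s s' h, k s s' h ≫ i s = i s')

/-- A system of monomorphisms as a diagram. -/
def diagram : Iᵒᵖ ⥤ Sp S where
  obj s := Z s.unop
  map {s s'} φ := k s'.unop s.unop (leOfHom φ.unop)
  map_id s := by rw [← cancel_mono (i s.unop), hk, Category.id_comp]
  map_comp {s s' s''} φ ψ := by rw [← cancel_mono (i s''.unop), hk, Category.assoc, hk, hk]

/-- The morphism of the diagram to the base. -/
def diagramHom : diagram Z i k hk ⟶ (Functor.const Iᵒᵖ).obj X where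
  app s := i s.unop
  naturality s s' φ := (hk _ _ _).trans (Category.comp_id _).symm

theorem exists_diagram_cone (o : I) (ho : ∀ s, o ≤ s) {Z₀ : Sp S} (f : Z₀ ⟶ X) [Mono f] (π : ∀ s, Z₀ ⟶ Z s)
    (hπ : ∀ s, π s ≫ i s = f)
    (hfac : ∀ (T : Over S) (h : (yon S).obj T ⟶ X), (∀ s, ∃ l, l ≫ i s = h) → ∃ l, l ≫ f = h) :
    ∃ (c : Cone (diagram Z i k hk)) (_ : IsLimit c) (e : c.pt ≅ Z₀),
      ∀ s, e.inv ≫ c.π.app s ≫ (diagramHom Z i k hk).app s = f := by
  let c : Cone (diagram Z i k hk) := Cone.mk Z₀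
    { app := fun s => π s.unop
      naturality := fun s s' φ => by
        change 𝟙 _ ≫ π s'.unop = π s.unop ≫ k s'.unop s.unop (leOfHom φ.unop)
        rw [← cancel_mono (i s'.unop), Category.id_comp, Category.assoc, hk, hπ, hπ] }
  have hall : ∀ (σ : Cone (diagram Z i k hk)) (s : I), σ.π.app (op s) ≫ i s = σ.π.app (op o) ≫ i o := fun σ s => by
    rw [← hk o s (ho s), ← Category.assoc]
    exact congrArg (· ≫ i o) (σ.w (j := op s) (j' := op o) (homOfLE (ho s)).op)
  have hl : ∀ σ : Cone (diagram Z i k hk), ∃ l : σ.pt ⟶ Z₀, l ≫ f = σ.π.app (op o) ≫ i o := fun σ =>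
    exists_factor f _ fun T a => hfac T _ fun s => ⟨a ≫ σ.π.app (op s), by
      refine (Category.assoc _ _ _).trans ?_
      exact congrArg (a ≫ ·) (hall σ s)⟩
  choose l hl using hl
  exact ⟨c,
    { lift := l
      fac := fun σ s => by
        rw [← cancel_mono (i s.unop)]
        exact (Category.assoc _ _ _).trans (((congrArg (l σ ≫ ·) (hπ s.unop)).trans (hl σ)).trans (hall σ s.unop).symm)
      uniq := fun σ m hm => by
        rw [← cancel_mono f, hl σ, ← hm (op o)]
        exact ((Category.assoc _ _ _).trans (congrArg (m ≫ ·) (hπ o))).symm }, Iso.refl _,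
    fun s => (Category.id_comp _).trans (hπ _)⟩

end Diagram

theorem exists_limit [QuasiSeparatedSpace ↥S] (hX : IsAlgSpace X) (hqc : IsQuasiCompactSp X)
    (hqs : IsQuasiSeparatedSp X) {Z₀ : Sp S} (hZ₀ : IsAlgSpace Z₀) (f : Z₀ ⟶ X) (hf : RepWith @IsClosedImmersion f) :
    ∃ (I : Type u) (_ : Preorder I) (_ : IsDirected I (fun a b => a ≤ b)) (_ : Nonempty I) (D : Iᵒᵖ ⥤ Sp S)
      (t : D ⟶ (Functor.const Iᵒᵖ).obj X) (c : Cone D) (_ : IsLimit c) (e : c.pt ≅ Z₀),
      (∀ i, IsAlgSpace (D.obj i)) ∧ (∀ (i j : Iᵒᵖ) (φ : i ⟶ j), RepWith @IsClosedImmersion (D.map φ)) ∧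
      (∀ i, RepWith @IsClosedImmersion (t.app i) ∧ IsFinitePresentationMor (t.app i)) ∧
        (∀ i, e.inv ≫ c.π.app i ≫ t.app i = f) := by
  classical
  obtain ⟨V, p, hV, hp, hps⟩ := AlgSpLib.exists_affine_chart hqc
  obtain ⟨J, hJq, hJfg, hJle, hJmono, hJmem⟩ := exists_ideal_family hX hqc hqs hZ₀ hf (EtOver.mk p hp) hV
  choose Z i hZ hcut using fun s => AlgSpRegLib.exists_isCutOutBy hX (J s) (hJq s)
  have hi : ∀ s, RepWith @IsClosedImmersion (i s) := fun s => (hcut s).1
  haveI : ∀ s, Mono (i s) := fun s => AlgSpRegLib.mono_of_closedImmersion (hi s)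
  haveI := AlgSpRegLib.mono_of_closedImmersion hf
  choose k hk using fun s s' (h : s ≤ s') => (AlgSpRegLib.le_iff_factors hX (hcut s) (hcut s')).1 (hJmono s s' h)
  choose π hπ using fun s =>
    (AlgSpRegLib.le_iff_factors hX (hcut s) (⟨hf, rfl⟩ : IsCutOutBy (idealOfRep hf.1) f)).1 (hJle s)
  obtain ⟨c, hc, e, he⟩ := exists_diagram_cone Z i k hk ∅ (fun s => Finset.empty_subset s) f π hπ
    fun T h hh => factor_of_family hX hf p hp hps hV h fun b => by
      obtain ⟨hcl, hb⟩ := hcut {b}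
      exact ⟨Z {b}, i {b}, hcl, by rw [hb]; exact hJmem b, hh {b}⟩
  refine ⟨_, inferInstance, ⟨fun a b => ⟨a ∪ b, Finset.subset_union_left, Finset.subset_union_right⟩⟩,
    inferInstance, diagram Z i k hk, diagramHom Z i k hk, c, hc, e, fun s => hZ _, fun s s' φ => ?_,
    fun s => ⟨hi _, isFinitePresentationMor_of_ideal (hZ _) hX (hi _) fun E hE => by
      rw [(hcut s.unop).2]
      exact hJfg _ E hE⟩, he⟩
  exact FiltLib.repWith_of_comp_mono (f := (diagram Z i k hk).map φ) (j := i s'.unop)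
    ((hk s'.unop s.unop (leOfHom φ.unop)).symm ▸ hi s.unop)

end SubExt
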