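import Groth.Agent.SubExtLib.QuotFilteredMain

/-!
# Every quasi-coherent module is a filtered colimit of finitely presented modules
-/

set_option autoImplicit false
set_option backward.isDefEq.respectTransparency false
set_option backward.isDefEq.respectTransparency.types false
universe u
open CategoryTheory CategoryTheory.Limits AlgebraicGeometry Opposite AlgSp TopologicalSpace
open ModEtQc

noncomputable section

namespace SubExt

variable {S : Scheme.{u}} {X : Sp S}

/-- The data of the system. -/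
structure Sys {M : ModEt X} (π : Pres M) where
  /-- the relations -/
  G : ∀ s : Finset (Idx M), Idx (kernel (bψ π.P π.p s)) → ModEt X
  /-- the inclusions -/
  jG : ∀ s a, G s a ⟶ kernel (bψ π.P π.p s)
  mono : ∀ s a, Mono (jG s a)
  bc : ∀ s a, BC (G s a)
  ft : ∀ s a, (G s a).IsFiniteType
  range : ∀ s (a : Idx (kernel (bψ π.P π.p s))) (E : EtOver X) (hE : IsAffine E.obj.left.left),
    Set.range (appS (jG s a) E) = (a.1 ⟨E, hE⟩ : Set (sec (kernel (bψ π.P π.p s)) E))

namespace Sys

variable {M : ModEt X} {π : Pres M} (T : Sys π)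

/-- The index type. -/
def J (_ : Sys π) : Type (u + 1) := Node π.P π.p

instance : Preorder T.J where
  le x y := NodeLE T.G T.jG x y
  le_refl x := nodeLE_refl T.G T.jG x
  le_trans _ _ _ h h' := nodeLE_trans T.G T.jG h h'

/-- The finitely presented modules. -/
def obj (x : T.J) : ModEt X := cokernel (rel T.G T.jG x)

/-- The projections. -/
def proj (x : T.J) : bsum π.P (Sigma.fst x) ⟶ T.obj x := cokernel.π (rel T.G T.jG x)

instance epi_proj (x : T.J) : Epi (T.proj x) := inferInstanceAs (Epi (cokernel.π (rel T.G T.jG x)))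

theorem sub_of_le {x y : T.J} (h : x ≤ y) : Sigma.fst x ⊆ Sigma.fst y := h.1

theorem zero_of_le {x y : T.J} (h : x ≤ y) :
    rel T.G T.jG x ≫ binc π.P (T.sub_of_le h) ≫ T.proj y = 0 :=
  (Category.assoc _ _ _).symm.trans h.2

/-- The transition maps. -/
def map {x y : T.J} (h : x ≤ y) : T.obj x ⟶ T.obj y :=
  cokernel.desc _ (binc π.P (T.sub_of_le h) ≫ T.proj y) (T.zero_of_le h)

theorem proj_map {x y : T.J} (h : x ≤ y) : T.proj x ≫ T.map h = binc π.P (T.sub_of_le h) ≫ T.proj y :=
  cokernel.π_desc _ _ _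

/-- The diagram. -/
def diag : T.J ⥤ ModEt X where
  obj := T.obj
  map h := T.map (leOfHom h)
  map_id x := by
    rw [← cancel_epi (T.proj x), proj_map, binc_refl, Category.id_comp]
    exact (Category.comp_id _).symm
  map_comp {x y z} h h' := by
    rw [← cancel_epi (T.proj x), proj_map, ← Category.assoc, proj_map, Category.assoc, proj_map, ← Category.assoc,
      binc_comp]

/-- The cocone. -/
def cocone : T.diag ⟶ (Functor.const T.J).obj M where
  app x := cokernel.desc _ (bψ π.P π.p (Sigma.fst x)) (rel_bψ T.G T.jG x)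
  naturality x y h := by
    change T.map (leOfHom h) ≫ cokernel.desc _ (bψ π.P π.p (Sigma.fst y)) _ = cokernel.desc _ _ _ ≫ 𝟙 M
    rw [← cancel_epi (T.proj x), ← Category.assoc, proj_map, Category.comp_id, Category.assoc]
    erw [cokernel.π_desc, cokernel.π_desc]
    exact binc_bψ π.P π.p _

theorem proj_cocone (x : T.J) : T.proj x ≫ T.cocone.app x = bψ π.P π.p (Sigma.fst x) := cokernel.π_desc _ _ _

/-- The node with no relations. -/
def bot (s : Finset (Idx M)) : T.J := ⟨s, ⟨_, Sub.zero (kernel (bψ π.P π.p s)) Set.univ, rfl⟩⟩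

theorem bot_le {s : Finset (Idx M)} {y : T.J} (h : s ⊆ Sigma.fst y) : T.bot s ≤ y :=
  node_desc_zero T.G T.jG T.mono T.range s y h

theorem isDirected [QuasiSeparatedSpace ↥S] : IsDirected T.J (· ≤ ·) := by
  classical
  refine ⟨fun x y => ?_⟩
  obtain ⟨Qx, hx⟩ := exists_step_node T.G T.jG T.mono T.bc T.ft T.range x
    (t := Sigma.fst x ∪ Sigma.fst y) Finset.subset_union_left
  obtain ⟨Qy, hy⟩ := exists_step_node T.G T.jG T.mono T.bc T.ft T.range y
    (t := Sigma.fst x ∪ Sigma.fst y) Finset.subset_union_right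
  refine ⟨⟨Sigma.fst x ∪ Sigma.fst y, ⟨_, Qx.sum Qy, rfl⟩⟩, ?_, ?_⟩
  · exact hx _ fun E => le_sup_left
  · exact hy _ fun E => le_sup_right

theorem isFinitePresentation_obj (x : T.J) : (T.obj x).IsFinitePresentation := by
  obtain ⟨h₁, h₂⟩ := bc_fp_biproduct (fun i : Fin (Sigma.fst x).card => π.P (el (Sigma.fst x) i)) (fun i => π.bc _)
    fun i E hE => by
      haveI := π.fp (el (Sigma.fst x) i)
      haveI := hE
      exact fp_sec _ E
  haveI := h₂
  haveI := T.ft (Sigma.fst x) (Sigma.snd x)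
  exact fp_cokernel (T.bc (Sigma.fst x) (Sigma.snd x)) (rel T.G T.jG x) h₁

theorem leg_eq (c : Cocone T.diag) (x : T.J) :
    T.proj x ≫ c.ι.app x = T.proj (T.bot (Sigma.fst x)) ≫ c.ι.app (T.bot (Sigma.fst x)) := by
  have h : T.bot (Sigma.fst x) ≤ x := T.bot_le (subset_refl _)
  rw [← c.w (homOfLE h), ← Category.assoc]
  change _ = (T.proj _ ≫ T.map h) ≫ _
  rw [T.proj_map h, show binc π.P (T.sub_of_le h) = 𝟙 _ from binc_refl π.P _, Category.id_comp]

/-- The map of a cocone on a finite sum. -/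
def leg (c : Cocone T.diag) (s : Finset (Idx M)) : bsum π.P s ⟶ c.pt := T.proj (T.bot s) ≫ c.ι.app (T.bot s)

theorem binc_leg (c : Cocone T.diag) {s t : Finset (Idx M)} (h : s ⊆ t) :
    binc π.P h ≫ T.leg c t = T.leg c s := by
  have hle : T.bot s ≤ T.bot t := T.bot_le h
  rw [leg, leg, ← c.w (homOfLE hle), ← Category.assoc, ← Category.assoc]
  refine congrArg (· ≫ c.ι.app (T.bot t)) ?_
  exact (T.proj_map hle).symm

theorem kernel_leg [QuasiSeparatedSpace ↥S] (hX : IsAlgSpace X) (hqc : IsQuasiCompactSp X)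
    (hqs : IsQuasiSeparatedSp X) (hK : ∀ s, BC (kernel (bψ π.P π.p s))) (c : Cocone T.diag)
    (s : Finset (Idx M)) : kernel.ι (bψ π.P π.p s) ≫ T.leg c s = 0 := by
  haveI := T.mono s
  exact comp_eq_zero_of_factor (kernel.ι (bψ π.P π.p s)) (T.G s) (T.jG s) (T.range s) hX hqc hqs (hK s) _
    fun a => ⟨c.ι.app ⟨s, a⟩, T.leg_eq c ⟨s, a⟩⟩

theorem exists_isColimit [QuasiSeparatedSpace ↥S] (hX : IsAlgSpace X) (hqc : IsQuasiCompactSp X)
    (hqs : IsQuasiSeparatedSp X) (hM : BC M) (hK : ∀ s, BC (kernel (bψ π.P π.p s))) :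
    Nonempty (IsColimit (Cocone.mk M T.cocone)) := by
  classical
  have key : ∀ c : Cocone T.diag, ∃! D : M ⟶ c.pt, ∀ x, T.cocone.app x ≫ D = c.ι.app x := fun c => by
    let ga : ∀ a, π.P a ⟶ c.pt := fun a =>
      bι π.P {a} a (Finset.mem_singleton_self a) ≫ T.leg c {a}
    have hga : ∀ (t : Finset (Idx M)) (a : Idx M) (ha : a ∈ t), bι π.P t a ha ≫ T.leg c t = ga a := fun t a ha => by
      change _ = bι π.P {a} a _ ≫ T.leg c {a}
      rw [← T.binc_leg c (Finset.singleton_subset_iff.2 ha), ← Category.assoc, bι_binc]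
    obtain ⟨d, hd, hdu⟩ := π.exists_desc ga fun a b =>
      ⟨{a, b}, Finset.mem_insert_self a _, Finset.mem_insert_of_mem (Finset.mem_singleton_self b), T.leg c _,
        hga _ _ _, hga _ _ _, T.kernel_leg hX hqc hqs hK c _⟩
    obtain ⟨D, hD, huniq⟩ := π.exists_hom_of_family hX hqc hqs hM d hdu
    have hψ : ∀ (s : Finset (Idx M)), bψ π.P π.p s ≫ D = T.leg c s := fun s => bsum_ext π.P _ _ fun a ha => by
      rw [← Category.assoc, bι_bψ, hga s a ha, Category.assoc, hD a, hd a]
    refine ⟨D, fun x => ?_, fun D' hD' => huniq D' fun a => ?_⟩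
    · rw [← cancel_epi (T.proj x), ← Category.assoc, proj_cocone, hψ]
      exact (T.leg_eq c x).symm
    · haveI : Epi (π.q a) := epi_of_surjective _ (π.surj a)
      rw [← cancel_epi (π.q a), hd a]
      have h := congrArg (fun f => T.proj (T.bot {a}) ≫ f) (hD' (T.bot {a}))
      simp only [← Category.assoc, proj_cocone] at h
      rw [← Category.assoc]
      refine Eq.trans ?_ (hga {a} a (Finset.mem_singleton_self a))
      rw [leg, ← h]
      exact (congrArg (· ≫ D') (bι_bψ π.P π.p {a} (Finset.mem_singleton_self a))).symm.trans (Category.assoc _ _ _)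
  exact ⟨{ desc := fun c => (key c).exists.choose
           fac := fun c x => (key c).exists.choose_spec x
           uniq := fun c m hm => (key c).unique hm (key c).exists.choose_spec }⟩

end Sys

theorem exists_filtered_colimit [QuasiSeparatedSpace ↥S] (hX : IsAlgSpace X) (hqc : IsQuasiCompactSp X)
    (hqs : IsQuasiSeparatedSp X) (M : ModEt X) (hM : BC M) :
    ∃ (J : Type (u + 1)) (_ : SmallCategory J) (_ : IsFiltered J) (D : J ⥤ ModEt X)
      (ι : D ⟶ (Functor.const J).obj M),
      (∀ j, (D.obj j).IsFinitePresentation) ∧ Nonempty (IsColimit (Cocone.mk M ι)) := by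
  obtain ⟨π⟩ := exists_pres hX hqc hqs M hM
  have hK : ∀ s, BC (kernel (bψ π.P π.p s)) := fun s =>
    bc_kernel _ (bc_fp_biproduct (fun i : Fin s.card => π.P (el s i)) (fun i => π.bc _) fun i E hE => by
      haveI := π.fp (el s i)
      haveI := hE
      exact fp_sec _ E).1 hM
  choose G jG hj hG hft hr using fun s => exists_idx_family (kernel (bψ π.P π.p s)) (hK s)
  let T : Sys π := ⟨G, jG, hj, hG, hft, hr⟩
  haveI : Nonempty T.J := ⟨T.bot ∅⟩
  haveI := T.isDirected
  exact ⟨T.J, inferInstance, inferInstance, T.diag, T.cocone, T.isFinitePresentation_obj,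
    T.exists_isColimit hX hqc hqs hM hK⟩

end SubExt
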