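import Groth.Agent.SubExtLib.Core
import Groth.Agent.ModEtQcLib.EtalePull

/-!
# Applications of the extension of finite type submodules
-/

set_option autoImplicit false
set_option backward.isDefEq.respectTransparency false
set_option backward.isDefEq.respectTransparency.types false
universe u
open CategoryTheory CategoryTheory.Limits AlgebraicGeometry Opposite AlgSp TopologicalSpace
open ModEtQc

noncomputable section

namespace SubExt

variable {S : Scheme.{u}} {X : Sp S}

/-- The image of a quasi-coherent module is spanned by restrictions. -/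
theorem range_eq_spanPull {H M : ModEt X} (hH : BC H) (φ : H ⟶ M) {E E' : EtOver X} [IsAffine E.obj.left.left]
    [IsAffine E'.obj.left.left] (g : E' ⟶ E) :
    LinearMap.range (appS φ E') = spanPull M (LinearMap.range (appS φ E)) g := by
  refine le_antisymm ?_ (Submodule.span_le.2 ?_)
  · rintro _ ⟨x, rfl⟩
    obtain ⟨y, rfl⟩ := ((isTilde_iff_evS H E).1 (hH E ‹_›) (Over.mk g) ‹_›).2 x
    induction y using TensorProduct.induction_on with
    | zero => rw [map_zero, map_zero]; exact Submodule.zero_mem _
    | tmul c m =>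
      rw [evS_tmul, map_smul]
      exact Submodule.smul_mem _ _ (Submodule.subset_span ⟨appS φ E m, ⟨m, rfl⟩, (appS_res φ g m).symm⟩)
    | add p q hp hq => rw [map_add, map_add]; exact Submodule.add_mem _ hp hq
  · rintro _ ⟨_, ⟨m, rfl⟩, rfl⟩
    exact ⟨res H g m, appS_res φ g m⟩

theorem range_fg {H M : ModEt X} (hH : BC H) [H.IsFiniteType] (φ : H ⟶ M) (E : EtOver X)
    [IsAffine E.obj.left.left] : (LinearMap.range (appS φ E)).FG := by
  haveI := finite_sec H hH E
  rw [← Submodule.map_top]
  exact Module.Finite.fg_top.map _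

/-- The datum of a finite type quasi-coherent submodule. -/
def Sub.ofHom {M H : ModEt X} (φ : H ⟶ M) (hH : BC H) [H.IsFiniteType] : Sub M Set.univ where
  P E := LinearMap.range (appS φ E)
  fg E hE _ := by haveI := hE; exact range_fg hH φ E
  span E E' g hE hE' _ := by haveI := hE; haveI := hE'; exact range_eq_spanPull hH φ g

/-- The zero datum. -/
def Sub.zero (M : ModEt X) (O : Set (Points X)) : Sub M O where
  P _ := ⊥
  fg _ _ _ := Submodule.fg_bot
  span E E' g _ _ _ := by
    refine (le_antisymm (Submodule.span_le.2 ?_) bot_le).symm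
    rintro _ ⟨s, hs, rfl⟩
    rw [(Submodule.mem_bot _).1 hs, map_zero]
    rfl

/-- The sum of two data. -/
def Sub.sum {M : ModEt X} {O : Set (Points X)} (P Q : Sub M O) : Sub M O where
  P E := P.P E ⊔ Q.P E
  fg E hE hb := (P.fg E hE hb).sup (Q.fg E hE hb)
  span E E' g hE hE' hb := by rw [spanPull_sup, P.span E E' g hE hE' hb, Q.span E E' g hE hE' hb]

theorem mem_of_below_empty (M : ModEt X) {Z : EtOver X} (hb : Below ∅ Z) (N : Submodule (Ring Z) (sec M Z))
    (t : sec M Z) : t ∈ N := by
  rw [eq_of_cover M (ι := Fin 0) (fun i => i.elim0) (fun i => i.elim0) (fun x => (hb x).elim) t 0 (fun i => i.elim0)]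
  exact Submodule.zero_mem _

/-- Every section lies in some finite type submodule. -/
theorem exists_sub_mem [QuasiSeparatedSpace ↥S] (hX : IsAlgSpace X) (hqc : IsQuasiCompactSp X)
    (hqs : IsQuasiSeparatedSp X) (M : ModEt X) (hM : BC M) (E : EtOver X) [IsAffine E.obj.left.left] (s : sec M E) :
    ∃ P : Sub M Set.univ, s ∈ P.P E := by
  obtain ⟨P, -, h⟩ := exists_extension M hM hX hqc hqs isOpen_empty isCompact_empty (Sub.zero M ∅) E s
    fun Z _ hb b => mem_of_below_empty M hb _ _
  exact ⟨P, res_id M E s ▸ h E ‹_› (𝟙 E)⟩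

theorem isColimit_finiteType [QuasiSeparatedSpace ↥S] (hX : IsAlgSpace X) (hqc : IsQuasiCompactSp X)
    (hqs : IsQuasiSeparatedSp X) (M : ModEt X) (hM : BC M) (P : ObjectProperty (Subobject M))
    (hP : P = fun N => (Subobject.underlying.obj N).IsQuasicoherent ∧ (Subobject.underlying.obj N).IsFiniteType)
    (ι : P.ι ⋙ Subobject.underlying ⟶ (Functor.const P.FullSubcategory).obj M)
    (hι : ∀ N : P.FullSubcategory, ι.app N = N.obj.arrow) :
    IsFiltered P.FullSubcategory ∧ Nonempty (IsColimit (Cocone.mk M ι)) := by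
  classical
  haveI := isGrothendieckAbelian_modEt (X := X)
  have mk : ∀ Q : Sub M Set.univ, ∃ A : P.FullSubcategory, ∀ (E : EtOver X), IsAffine E.obj.left.left →
      Set.range (appS A.obj.arrow E) = (Q.P E : Set (sec M E)) := fun Q => by
    obtain ⟨F, j, hj, hq, hr⟩ := Q.exists_module hM
    haveI := hj
    haveI : (Subobject.mk j : ModEt X).IsQuasicoherent :=
      (SheafOfModules.isQuasicoherent (OEtRing X)).prop_of_iso (Subobject.underlyingIso j).symm hq
    have hr' : ∀ (E : EtOver X), IsAffine E.obj.left.left →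
        Set.range (appS (Subobject.mk j).arrow E) = (Q.P E : Set (sec M E)) := fun E hE => by
      rw [← hr E hE]
      ext t
      constructor
      · rintro ⟨y, rfl⟩
        exact ⟨appS (Subobject.underlyingIso j).hom E y,
          congrArg (fun φ => appS φ E y) (Subobject.underlyingIso_hom_comp_eq_mk j)⟩
      · rintro ⟨y, rfl⟩
        exact ⟨appS (Subobject.underlyingIso j).inv E y,
          congrArg (fun φ => appS φ E y) (Subobject.underlyingIso_arrow j)⟩
    have := Q.isFiniteType (Subobject.mk j).arrow hr'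
    exact ⟨⟨Subobject.mk j, by rw [hP]; exact ⟨‹_›, this⟩⟩, hr'⟩
  have props : ∀ A : P.FullSubcategory, BC (A.obj : ModEt X) ∧ (A.obj : ModEt X).IsFiniteType := fun A => by
    have h : (A.obj : ModEt X).IsQuasicoherent ∧ (A.obj : ModEt X).IsFiniteType :=
      (congrFun hP A.obj).mp A.property
    haveI : (A.obj : ModEt X).IsQuasicoherent := h.1
    exact ⟨bc_of_isQuasicoherent _, h.2⟩
  haveI : Nonempty P.FullSubcategory := ⟨(mk (Sub.zero M Set.univ)).choose⟩
  haveI hfil : IsFilteredOrEmpty P.FullSubcategory :=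
    { cocone_objs := fun A B => by
        haveI := (props A).2
        haveI := (props B).2
        obtain ⟨C, hC⟩ := mk ((Sub.ofHom A.obj.arrow (props A).1).sum (Sub.ofHom B.obj.arrow (props B).1))
        obtain ⟨lA, hlA⟩ := exists_lift_of_range_le C.obj.arrow A.obj.arrow fun E hE => by
          rw [hC E hE]
          exact fun x hx => Submodule.mem_sup_left hx
        obtain ⟨lB, hlB⟩ := exists_lift_of_range_le C.obj.arrow B.obj.arrow fun E hE => by
          rw [hC E hE]
          exact fun x hx => Submodule.mem_sup_right hx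
        exact ⟨C, P.homMk (homOfLE (Subobject.le_of_comm lA hlA)), P.homMk (homOfLE (Subobject.le_of_comm lB hlB)),
          trivial⟩
      cocone_maps := fun {A B} f g => ⟨B, 𝟙 _, ObjectProperty.hom_ext _ (Subsingleton.elim _ _)⟩ }
  haveI : IsFiltered P.FullSubcategory := { }
  refine ⟨inferInstance, ?_⟩
  haveI : WellPowered.{u + 1} (ModEt X) := inferInstance
  haveI : HasLimits (ModEt X) := inferInstance
  haveI : HasColimits (ModEt X) := inferInstance
  haveI : HasWidePullbacks.{u + 1} (ModEt X) := fun _ => inferInstance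
  haveI : HasCoproducts.{u + 1} (ModEt X) := fun _ => inferInstance
  haveI : EssentiallySmall.{u + 1} (Subobject M) :=
    (essentiallySmall_congr ((Subobject.equivMonoOver M).symm)).1 inferInstance
  letI : CompleteLattice (Subobject M) := Subobject.instCompleteLattice.{u + 1}
  haveI : EssentiallySmall.{u + 1} P.FullSubcategory := essentiallySmall_of_fully_faithful.{u + 1} P.ι
  let e := equivSmallModel.{u + 1} P.FullSubcategory
  haveI : IsFiltered (SmallModel.{u + 1} P.FullSubcategory) := IsFiltered.of_equivalence e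
  let F : SmallModel.{u + 1} P.FullSubcategory ⥤ MonoOver M := e.inverse ⋙ P.ι ⋙ Subobject.representative
  let c : Cocone (F ⋙ MonoOver.forget _) := Cocone.mk (Over.mk (𝟙 M))
    { app := fun j => Over.homMk (F.obj j).obj.hom (Category.comp_id _)
      naturality := fun j j' k => Over.OverMorphism.ext (by simp) }
  haveI : Mono c.pt.hom := inferInstanceAs (Mono (𝟙 M))
  have htop : Subobject.mk c.pt.hom = ⨆ j, Subobject.mk (F.obj j).obj.hom := by
    let T := ⨆ j, Subobject.mk (F.obj j).obj.hom
    haveI : IsIso T.arrow := isIso_of_locally_surjective T.arrow fun E s => by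
      obtain ⟨κ, Y, g, hY, hc⟩ := exists_affine_cover E
      refine ⟨ULift.{u + 1} κ, fun i => Y i.down, fun i => g i.down,
        fun x => ⟨⟨(hc x).choose⟩, (hc x).choose_spec⟩, fun i => ?_⟩
      haveI := hY i.down
      obtain ⟨Q, hs⟩ := exists_sub_mem hX hqc hqs M hM (Y i.down) (res M (g i.down) s)
      obtain ⟨A, hA⟩ := mk Q
      obtain ⟨t, ht⟩ : res M (g i.down) s ∈ Set.range (appS A.obj.arrow (Y i.down)) := (hA _ (hY i.down)).symm ▸ hs
      have hle : Subobject.mk A.obj.arrow ≤ T := by
        refine le_trans (le_of_eq ?_) (le_iSup (fun j => Subobject.mk (F.obj j).obj.hom) (e.functor.obj A))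
        let d := (P.ι ⋙ Subobject.representative).mapIso (e.unitIso.app A)
        exact Subobject.mk_eq_mk_of_comm _ _ ((MonoOver.forget M ⋙ Over.forget M).mapIso d)
          (MonoOver.w d.hom)
      refine ⟨appS (Subobject.ofMkLE A.obj.arrow T hle) _ t, Eq.trans ?_ ht⟩
      exact congrArg (fun φ => appS φ (Y i.down) t) (Subobject.ofMkLE_arrow hle)
    change Subobject.mk (𝟙 M) = T
    exact (Subobject.top_eq_id M).symm.trans (Subobject.eq_top_of_isIso_arrow T).symm
  have hc := IsGrothendieckAbelian.isColimitMapCoconeOfSubobjectMkEqISup F c htop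
  exact ⟨IsColimit.ofWhiskerEquivalence e.symm (hc.ofIsoColimit (Cocone.ext (Iso.refl _) fun j =>
    (Category.comp_id _).trans (hι _).symm))⟩

section Restr

variable {U : Sp S} {j : U ⟶ X} (hj : RepWith @IsOpenImmersion j) (he : IsEtaleMor j) {M : ModEt X} {G : ModEt U}
  (g : G ⟶ (resEt he).obj M)

/-- The sections of `M` over a composed object coming from the submodule. -/
def img (Y : EtOver U) : Submodule (Ring ((EtOver.postcomp j he).obj Y)) (sec M ((EtOver.postcomp j he).obj Y)) where
  carrier := Set.range (appS g Y)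
  add_mem' := by
    rintro _ _ ⟨a, rfl⟩ ⟨b, rfl⟩
    exact ⟨a + b, map_add (appS g Y) a b⟩
  zero_mem' := ⟨0, map_zero (appS g Y)⟩
  smul_mem' := by
    rintro c _ ⟨a, rfl⟩
    exact ⟨(show Ring Y from c) • a, map_smul (appS g Y) _ a⟩

/-- The submodule on objects below the open subspace. -/
def restrP (E : EtOver X) : Submodule (Ring E) (sec M E) where
  carrier := {s | ∀ (Y : EtOver U) (_ : IsAffine Y.obj.left.left) (a : (EtOver.postcomp j he).obj Y ⟶ E),
    res M a s ∈ img he g Y}
  add_mem' hs ht Y hY a := by rw [map_add]; exact add_mem (hs Y hY a) (ht Y hY a)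
  zero_mem' Y hY a := by rw [map_zero]; exact zero_mem _
  smul_mem' c s hs Y hY a := by rw [res_smul]; exact Submodule.smul_mem _ _ (hs Y hY a)

theorem res_restrP {E E' : EtOver X} (k : E' ⟶ E) {s : sec M E} (hs : s ∈ restrP he g E) :
    res M k s ∈ restrP he g E' := fun Y hY a => by
  rw [← res_comp]
  exact hs Y hY _

theorem restrP_eq_of_iso {E E' : EtOver X} (a : E' ⟶ E) (b : E ⟶ E') (hab : b ≫ a = 𝟙 E) :
    restrP he g E = spanPull M (restrP he g E') b := by
  refine le_antisymm (fun s hs => ?_) (Submodule.span_le.2 ?_)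
  · rw [← res_id M E s, ← hab, res_comp]
    exact res_mem M b (res_restrP he g a hs)
  · rintro _ ⟨s, hs, rfl⟩
    exact res_restrP he g b hs

include hj in
theorem restrP_postcomp (Y : EtOver U) [IsAffine Y.obj.left.left] :
    restrP he g ((EtOver.postcomp j he).obj Y) = img he g Y := by
  refine le_antisymm (fun s hs => res_id M _ s ▸ hs Y ‹_› (𝟙 _)) ?_
  rintro _ ⟨t, rfl⟩ Y' hY' a
  haveI := AlgSpLib.mono_of_openImmersion hj
  let k : Y' ⟶ Y := EtOver.homMk a.hom.left (by
    rw [← cancel_mono j, Category.assoc]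
    exact EtOver.w a)
  exact ⟨res G k t, appS_res g k t⟩

include hj in
theorem exists_iso_postcomp {E : EtOver X} (hb : Below (Set.range (Points.map j)) E) :
    ∃ (Y : EtOver U) (a : (EtOver.postcomp j he).obj Y ⟶ E) (b : E ⟶ (EtOver.postcomp j he).obj Y),
      a ≫ b = 𝟙 _ ∧ b ≫ a = 𝟙 _ ∧ (IsAffine E.obj.left.left → IsAffine Y.obj.left.left) := by
  haveI := AlgSpLib.mono_of_openImmersion hj
  obtain ⟨f, hf⟩ := (AlgSpLib.exists_factor_iff hj E.obj.hom).2 (by
    rintro _ ⟨x, rfl⟩
    obtain ⟨y, rfl⟩ := (Points.schemeHomeo E.obj.left).surjective x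
    have h := hb y
    rw [Points.ofPt_eq_map_ofScheme] at h
    exact h)
  refine ⟨EtOver.mk f (FiltLib.repWith_of_comp_mono (j := j) (hf.symm ▸ E.property)),
    EtOver.homMk (𝟙 E.obj.left) ?_, EtOver.homMk (𝟙 E.obj.left) ?_, EtOver.hom_ext _ _ (Category.comp_id _),
    EtOver.hom_ext _ _ (Category.comp_id _), fun h => h⟩
  · exact ((congrArg (· ≫ E.obj.hom) ((yon S).map_id _)).trans (Category.id_comp _)).trans hf.symm
  · exact ((congrArg (· ≫ (f ≫ j)) ((yon S).map_id _)).trans (Category.id_comp _)).trans hf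

variable (hG : BC G) [G.IsFiniteType]

/-- The datum on the open subspace. -/
def Sub.restr : Sub M (Set.range (Points.map j)) where
  P := restrP he g
  fg E hE hb := by
    obtain ⟨Y, a, b, -, hba, hY⟩ := exists_iso_postcomp hj he hb
    haveI := hY hE
    rw [restrP_eq_of_iso he g a b hba, restrP_postcomp hj he g Y]
    exact spanPull_fg M _ b (range_fg hG g Y)
  span E E' k hE hE' hb := by
    obtain ⟨Y, a, b, -, hba, hY⟩ := exists_iso_postcomp hj he hb
    obtain ⟨Y', a', b', -, hba', hY'⟩ := exists_iso_postcomp hj he (hb.comp k)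
    haveI := hY hE
    haveI := hY' hE'
    haveI := AlgSpLib.mono_of_openImmersion hj
    let q : Y' ⟶ Y := EtOver.homMk (a' ≫ k ≫ b).hom.left (by
      rw [← cancel_mono j, Category.assoc]
      exact EtOver.w (a' ≫ k ≫ b))
    have e : img he g Y' = spanPull M (img he g Y) (a' ≫ k ≫ b) := range_eq_spanPull hG g q
    rw [restrP_eq_of_iso he g a b hba, restrP_eq_of_iso he g a' b' hba', restrP_postcomp hj he g Y,
      restrP_postcomp hj he g Y', e, spanPull_comp, spanPull_comp, ← Category.assoc, hba', Category.id_comp]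

include hj hG in
/-- Extension of a submodule on a quasi-compact open subspace. -/
theorem exists_extension_module [QuasiSeparatedSpace ↥S] (hX : IsAlgSpace X) (hqc : IsQuasiCompactSp X)
    (hqs : IsQuasiSeparatedSp X) (hU : IsAlgSpace U) (hUc : IsQuasiCompactSp U) (hM : BC M) [Mono g] :
    ∃ (G' : ModEt X) (g' : G' ⟶ M), Mono g' ∧ G'.IsQuasicoherent ∧ G'.IsFiniteType ∧
      ∃ e : (resEt he).obj G' ≅ G, e.hom ≫ g = (resEt he).map g' := by
  obtain ⟨V, p, hV, hp, -⟩ := AlgSpLib.exists_affine_chart hqc
  haveI : IsAffine (EtOver.mk p hp).obj.left.left := hV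
  obtain ⟨P, hP, -⟩ := exists_extension M hM hX hqc hqs (FiltLib.isOpen_range_of_openImmersion hU hj)
    (FiltLib.isCompact_range_of_qc hUc j) (Sub.restr hj he g hG) (EtOver.mk p hp) 0
    fun Z _ _ b => by rw [map_zero]; exact Submodule.zero_mem _
  obtain ⟨G', g', hg', hq, hr⟩ := P.exists_module hM
  haveI := hg'
  haveI := hq
  refine ⟨G', g', hg', hq, P.isFiniteType g' hr, ?_⟩
  haveI : Mono ((resEt he).map g') := ⟨fun h h' e => SheafOfModules.hom_ext (PresheafOfModules.hom_ext fun W =>
    ModuleCat.hom_ext (LinearMap.ext fun x => injective_appS g' ((EtOver.postcomp j he).obj W.unop)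
      (congrArg (fun ψ => appS ψ W.unop x) e)))⟩
  have key : ∀ Y : EtOver U, IsAffine Y.obj.left.left →
      Set.range (appS ((resEt he).map g') Y) = Set.range (appS g Y) := fun Y hY => by
    haveI := hY
    have hb : Below (Set.range (Points.map j)) ((EtOver.postcomp j he).obj Y) := fun x =>
      ⟨Points.ofPt Y.obj.hom x, Points.map_ofPt Y.obj.hom j x⟩
    have h := hr ((EtOver.postcomp j he).obj Y) hY
    rw [hP _ hY hb] at h
    exact h.trans (congrArg (fun N : Submodule _ _ => (N : Set (sec M ((EtOver.postcomp j he).obj Y))))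
      (restrP_postcomp hj he g Y))
  obtain ⟨l, hl⟩ := exists_lift_of_range_le g ((resEt he).map g') fun Y hY => (key Y hY).le
  obtain ⟨l', hl'⟩ := exists_lift_of_range_le ((resEt he).map g') g fun Y hY => (key Y hY).ge
  exact ⟨⟨l, l', by rw [← cancel_mono ((resEt he).map g'), Category.assoc, hl', hl, Category.id_comp],
    by rw [← cancel_mono g, Category.assoc, hl, hl', Category.id_comp]⟩, hl⟩

end Restr

end SubExt
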