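import Groth.Agent.SubExtLib.QuotFinal

/-!
# A finite type module as a colimit of finitely presented modules with surjective transition maps
-/

set_option autoImplicit false
set_option backward.isDefEq.respectTransparency false
set_option backward.isDefEq.respectTransparency.types false
universe u
open CategoryTheory CategoryTheory.Limits AlgebraicGeometry Opposite AlgSp TopologicalSpace
open ModEtQc

noncomputable section

namespace SubExt

variable {S : Scheme.{u}} {X : Sp S}

theorem epi_of_surjective {A B : ModEt X} (φ : A ⟶ B)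
    (h : ∀ E : EtOver X, IsAffine E.obj.left.left → Function.Surjective (appS φ E)) : Epi φ := by
  refine ⟨fun {C} a b e => SheafOfModules.hom_ext (PresheafOfModules.hom_ext fun W => ModuleCat.hom_ext
    (LinearMap.ext fun (x : sec B W.unop) => ?_))⟩
  obtain ⟨κ, Y, g, hY, hc⟩ := exists_affine_cover W.unop
  refine eq_of_cover C Y g hc _ _ fun i => ?_
  change res C (g i) (appS a _ x) = res C (g i) (appS b _ x)
  rw [← appS_res, ← appS_res]
  obtain ⟨y, hy⟩ := h (Y i) (hY i) (res B (g i) x)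
  rw [← hy]
  exact congrArg (fun ψ => appS ψ (Y i) y) e

theorem comp_eq_zero_of_affine {A B C : ModEt X} (m : A ⟶ B) (g : B ⟶ C)
    (h : ∀ E : EtOver X, IsAffine E.obj.left.left → ∀ x, appS g E (appS m E x) = 0) : m ≫ g = 0 := by
  refine SheafOfModules.hom_ext (PresheafOfModules.hom_ext fun W => ModuleCat.hom_ext
    (LinearMap.ext fun (x : sec A W.unop) => ?_))
  obtain ⟨κ, Y, g', hY, hc⟩ := exists_affine_cover W.unop
  refine eq_of_cover C Y g' hc _ _ fun i => ?_
  change res C (g' i) (appS (m ≫ g) _ x) = res C (g' i) 0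
  rw [map_zero, ← appS_res, appS_comp']
  exact h (Y i) (hY i) _

theorem fp_cokernel {A B : ModEt X} (hA : BC A) [A.IsFiniteType] (m : A ⟶ B) (hB : BC B) [B.IsFinitePresentation] :
    (cokernel m).IsFinitePresentation := by
  refine isFinitePresentation_of_cover _ (bc_cokernel m hA hB) _ (fun E => E.2) coversTop_affine fun E => ?_
  haveI := E.2
  haveI := fp_sec B E.1
  refine Module.finitePresentation_of_surjective (appS (cokernel.π m) E.1)
    (surjective_appS_of_epi _ hB (bc_cokernel m hA hB) E.1) ?_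
  rw [(exact_cokernel_appS m hA hB E.1).linearMap_ker_eq]
  exact range_fg hA m E.1

section Colim

variable {P M K : ModEt X} (k : K ⟶ P) [Mono k]

/-- The values of finite type submodules on affine objects. -/
abbrev Idx (K : ModEt X) : Type (u + 1) :=
  ↥(Set.range fun (Q : Sub K Set.univ) (E : {E : EtOver X // IsAffine E.obj.left.left}) => Q.P E.1)

variable (F : Idx K → ModEt X) (j : ∀ a, F a ⟶ K) [∀ a, Mono (j a)]
  (hr : ∀ (a : Idx K) (E : EtOver X) (hE : IsAffine E.obj.left.left),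
    Set.range (appS (j a) E) = (a.1 ⟨E, hE⟩ : Set (sec K E)))

include hr in
theorem exists_trans {a b : Idx K} (h : a ≤ b) :
    (j a ≫ k) ≫ cokernel.π (j b ≫ k) = 0 := by
  obtain ⟨l, hl⟩ := exists_lift_of_range_le (j b) (j a) fun E hE => by
    rw [hr a E hE, hr b E hE]
    exact h ⟨E, hE⟩
  rw [← hl, Category.assoc, Category.assoc, ← Category.assoc (j b), cokernel.condition, comp_zero]

/-- The system of quotients. -/
def quotSystem : Idx K ⥤ ModEt X where
  obj a := cokernel (j a ≫ k)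
  map {a b} h := cokernel.desc _ (cokernel.π (j b ≫ k)) (exists_trans k F j hr (leOfHom h))
  map_id a := by
    rw [← cancel_epi (cokernel.π (j a ≫ k)), cokernel.π_desc, Category.comp_id]
  map_comp {a b c} h h' := by
    rw [← cancel_epi (cokernel.π (j a ≫ k)), cokernel.π_desc, ← Category.assoc, cokernel.π_desc, cokernel.π_desc]

theorem π_quotSystem_map {a b : Idx K} (h : a ⟶ b) :
    cokernel.π (j a ≫ k) ≫ (quotSystem k F j hr).map h = cokernel.π (j b ≫ k) := cokernel.π_desc _ _ _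

theorem comp_quot_eq_zero (φ : P ⟶ M) (hk : k ≫ φ = 0) (a : Idx K) : (j a ≫ k) ≫ φ = 0 := by
  rw [Category.assoc, hk, comp_zero]

/-- The cocone of the system of quotients. -/
def quotι (φ : P ⟶ M) (hk : k ≫ φ = 0) : quotSystem k F j hr ⟶ (Functor.const (Idx K)).obj M where
  app a := cokernel.desc (j a ≫ k) φ (comp_quot_eq_zero k F j φ hk a)
  naturality a b h := by
    change cokernel.desc (j a ≫ k) (cokernel.π (j b ≫ k)) _ ≫ cokernel.desc (j b ≫ k) φ _ =
      cokernel.desc (j a ≫ k) φ _ ≫ 𝟙 M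
    refine (cancel_epi (cokernel.π (j a ≫ k))).1 ?_
    rw [cokernel.π_desc_assoc, cokernel.π_desc, Category.comp_id, cokernel.π_desc]

theorem π_quotι (φ : P ⟶ M) (hk : k ≫ φ = 0) (a : Idx K) :
    cokernel.π (j a ≫ k) ≫ (quotι k F j hr φ hk).app a = φ := cokernel.π_desc _ _ _

theorem factor_kills {C : ModEt X} (g : P ⟶ C) (hg : ∀ a, ∃ t, cokernel.π (j a ≫ k) ≫ t = g) {E : EtOver X}
    (a : Idx K) {x : sec K E} (hx : ∃ f, appS (j a) E f = x) : appS g E (appS k E x) = 0 := by
  obtain ⟨t, rfl⟩ := hg a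
  rw [appS_comp', kill_aux (j a) k hx rfl, map_zero]

include hr in
theorem comp_eq_zero_of_factor [QuasiSeparatedSpace ↥S] (hX : IsAlgSpace X) (hqc : IsQuasiCompactSp X)
    (hqs : IsQuasiSeparatedSp X) (hK : BC K) {C : ModEt X} (g : P ⟶ C)
    (hg : ∀ a, ∃ t, cokernel.π (j a ≫ k) ≫ t = g) : k ≫ g = 0 :=
  comp_eq_zero_of_affine k g fun E hE x => by
    haveI := hE
    obtain ⟨Q', hQ'⟩ := exists_sub_mem hX hqc hqs K hK E x
    exact factor_kills k F j g hg ⟨_, Q', rfl⟩ (mem_range_of_eq (j _) _ (hr ⟨_, Q', rfl⟩ E hE) hQ')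

theorem epi_quotSystem_map {a b : Idx K} (h : a ⟶ b) : Epi ((quotSystem k F j hr).map h) := by
  haveI : Epi (cokernel.π (j a ≫ k) ≫ (quotSystem k F j hr).map h) :=
    (π_quotSystem_map k F j hr h).symm ▸ inferInstanceAs (Epi (cokernel.π (j b ≫ k)))
  exact epi_of_epi (cokernel.π (j a ≫ k)) _

end Colim

theorem exists_idx_family (K : ModEt X) (hK : BC K) :
    ∃ (F : Idx K → ModEt X) (j : ∀ a, F a ⟶ K), (∀ a, Mono (j a)) ∧ (∀ a, BC (F a)) ∧
      (∀ a, (F a).IsFiniteType) ∧ ∀ (a : Idx K) (E : EtOver X) (hE : IsAffine E.obj.left.left),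
        Set.range (appS (j a) E) = (a.1 ⟨E, hE⟩ : Set (sec K E)) := by
  choose Q hQ using fun a : Idx K => a.2
  choose F j hj hF hr' using fun a => (Q a).exists_module hK
  refine ⟨F, j, hj, fun a => ?_, fun a => ?_, fun a E hE =>
    (hr' a E hE).trans (congrArg (fun N : Submodule (Ring E) (sec K E) => (N : Set (sec K E)))
      (congrFun (hQ a) ⟨E, hE⟩))⟩
  · haveI := hF a
    exact bc_of_isQuasicoherent (F a)
  · haveI := hF a
    haveI := hj a
    exact (Q a).isFiniteType (j a) (hr' a)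

theorem isDirected_idx (K : ModEt X) : IsDirected (Idx K) (· ≤ ·) :=
  ⟨by
    rintro ⟨_, A, rfl⟩ ⟨_, B, rfl⟩
    exact ⟨⟨_, A.sum B, rfl⟩, fun E x hx => Submodule.mem_sup_left hx, fun E x hx => Submodule.mem_sup_right hx⟩⟩

theorem exists_colimit_aux [QuasiSeparatedSpace ↥S] (hX : IsAlgSpace X) (hqc : IsQuasiCompactSp X)
    (hqs : IsQuasiSeparatedSp X) {P M K : ModEt X} (φ : P ⟶ M) [Epi φ] [P.IsFinitePresentation] (hP : BC P)
    (k : K ⟶ P) [Mono k] (hk : k ≫ φ = 0) (hK : BC K)
    (hdesc : ∀ (C : ModEt X) (g : P ⟶ C), k ≫ g = 0 → ∃ d, φ ≫ d = g) :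
    ∃ (J : Type (u + 1)) (_ : PartialOrder J) (_ : IsDirected J (· ≤ ·)) (_ : Nonempty J)
      (D : J ⥤ ModEt X) (ι : D ⟶ (Functor.const J).obj M),
      Nonempty (IsColimit (Cocone.mk M ι)) ∧ (∀ j, (D.obj j).IsFinitePresentation) ∧
        ∀ (j j' : J) (h : j ⟶ j'), Epi (D.map h) := by
  classical
  obtain ⟨F, j, hj, hF, hft, hr⟩ := exists_idx_family K hK
  haveI := hj
  haveI hne : Nonempty (Idx K) := ⟨⟨_, Sub.zero K Set.univ, rfl⟩⟩
  haveI hdir : IsDirected (Idx K) (· ≤ ·) := isDirected_idx K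
  let D := quotSystem k F j hr
  let ι : D ⟶ (Functor.const (Idx K)).obj M := quotι k F j hr φ hk
  refine ⟨Idx K, inferInstance, hdir, hne, D, ι, ⟨?_⟩, fun a => ?_, fun a b h => epi_quotSystem_map k F j hr h⟩
  · let o := hne.some
    have hmap : ∀ (s : Cocone D) (a b : Idx K), a ≤ b →
        cokernel.π (j a ≫ k) ≫ s.ι.app a = cokernel.π (j b ≫ k) ≫ s.ι.app b := fun s a b h => by
      rw [← s.w (homOfLE h), ← Category.assoc]
      exact congrArg (· ≫ s.ι.app b) (π_quotSystem_map k F j hr (homOfLE h))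
    have hind : ∀ (s : Cocone D) (a : Idx K),
        cokernel.π (j o ≫ k) ≫ s.ι.app o = cokernel.π (j a ≫ k) ≫ s.ι.app a := fun s a => by
      obtain ⟨c, h₁, h₂⟩ := hdir.directed o a
      exact (hmap s o c h₁).trans (hmap s a c h₂).symm
    have hkill : ∀ (s : Cocone D), k ≫ (cokernel.π (j o ≫ k) ≫ s.ι.app o) = 0 := fun s =>
      comp_eq_zero_of_factor k F j hr hX hqc hqs hK _ fun a => ⟨s.ι.app a, (hind s a).symm⟩
    choose d hd using fun s : Cocone D => hdesc _ (cokernel.π (j o ≫ k) ≫ s.ι.app o) (hkill s)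
    exact
      { desc := d
        fac := fun s a => by
          rw [← cancel_epi (cokernel.π (j a ≫ k))]
          refine ((Category.assoc _ _ _).symm.trans
            ((congrArg (· ≫ d s) (π_quotι k F j hr φ hk a)).trans (hd s))).trans ?_
          exact hind s a
        uniq := fun s m hm => by
          rw [← cancel_epi φ, hd s, ← hm o]
          exact ((Category.assoc _ _ _).symm.trans (congrArg (· ≫ m) (π_quotι k F j hr φ hk o))).symm }
  · haveI := hft a
    exact fp_cokernel (hF a) (j a ≫ k) hP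

theorem exists_directed_colimit [QuasiSeparatedSpace ↥S] (hX : IsAlgSpace X) (hqc : IsQuasiCompactSp X)
    (hqs : IsQuasiSeparatedSp X) (M : ModEt X) (hM : BC M) [M.IsFiniteType] :
    ∃ (J : Type (u + 1)) (_ : PartialOrder J) (_ : IsDirected J (· ≤ ·)) (_ : Nonempty J)
      (D : J ⥤ ModEt X) (ι : D ⟶ (Functor.const J).obj M),
      Nonempty (IsColimit (Cocone.mk M ι)) ∧ (∀ j, (D.obj j).IsFinitePresentation) ∧
        ∀ (j j' : J) (h : j ⟶ j'), Epi (D.map h) := by
  obtain ⟨P, φ, hP, hPfp, hφ⟩ := exists_fp_surjection hX hqc hqs M hM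
  haveI := hPfp
  haveI : Epi φ := epi_of_surjective φ hφ
  exact exists_colimit_aux hX hqc hqs φ hP (kernel.ι φ) (kernel.condition φ) (bc_kernel φ hP hM)
    fun C g h => ⟨Abelian.epiDesc φ g h, Abelian.comp_epiDesc φ g h⟩

end SubExt
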