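import Groth.Agent.SubExtLib.Apps
import Groth.Agent.AlgSpRegLib.CutByApps
import Groth.Agent.AlgSpRegLib.ImageIdeal
import Groth.Agent.AlgSpRegLib.ChartOpen

/-!
# Quasi-compact opens and finite type ideals
-/

set_option autoImplicit false
set_option backward.isDefEq.respectTransparency false
set_option backward.isDefEq.respectTransparency.types false
universe u
open CategoryTheory CategoryTheory.Limits AlgebraicGeometry Opposite AlgSp TopologicalSpace
open ModEtQc
open scoped TensorProduct

noncomputable section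

namespace SubExt

variable {S : Scheme.{u}} {X : Sp S}

/-- The structure sheaf as a module. -/
abbrev unitMod (X : Sp S) : ModEt X := SheafOfModules.unit (OEtRing X)

/-- A section of the structure sheaf as a function. -/
abbrev fn (E : EtOver X) (s : sec (unitMod X) E) : Ring E := s

theorem bc_unitMod : BC (unitMod X) := by
  intro E hE
  rw [isTilde_iff_evS]
  intro Z hZ
  have h1 : ∀ r : Ring Z.left, evS (unitMod X) Z (r ⊗ₜ[Ring E] (show sec (unitMod X) E from (1 : Ring E))) =
      (show sec (unitMod X) Z.left from r) := fun r => by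
    rw [evS_tmul]
    change r * rho Z.hom 1 = r
    rw [map_one, mul_one]
  refine ⟨(injective_iff_map_eq_zero _).2 fun t ht => ?_, fun y => ⟨_, h1 y⟩⟩
  have h2 : ∀ t : Ring Z.left ⊗[Ring E] sec (unitMod X) E,
      t = (fn Z.left (evS (unitMod X) Z t)) ⊗ₜ[Ring E] (show sec (unitMod X) E from (1 : Ring E)) := fun t => by
    induction t using TensorProduct.induction_on with
    | zero => rw [map_zero]; exact (TensorProduct.zero_tmul _ _).symm
    | tmul r m =>
      have hm : m = fn E m • (show sec (unitMod X) E from (1 : Ring E)) := (mul_one (fn E m)).symm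
      conv_lhs => rw [hm]
      rw [← TensorProduct.smul_tmul, evS_tmul, Algebra.smul_def]
      refine congrArg (· ⊗ₜ[Ring E] (show sec (unitMod X) E from (1 : Ring E))) ?_
      exact mul_comm _ _
    | add p q hp hq => conv_lhs => rw [hp, hq, ← TensorProduct.add_tmul]
                       rw [map_add]
  rw [h2 t, ht]
  exact TensorProduct.zero_tmul _ _

/-- The image of a datum. -/
def Sub.map {M M' : ModEt X} {O : Set (Points X)} (P : Sub M O) (φ : M ⟶ M') : Sub M' O where
  P E := (P.P E).map (appS φ E)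
  fg E hE hb := (P.fg E hE hb).map _
  span E E' g hE hE' hb := by
    rw [P.span E E' g hE hE' hb]
    refine le_antisymm (Submodule.map_le_iff_le_comap.2 (Submodule.span_le.2 ?_)) (Submodule.span_le.2 ?_)
    · rintro _ ⟨s, hs, rfl⟩
      exact Submodule.subset_span ⟨_, Submodule.mem_map_of_mem hs, (appS_res φ g s).symm⟩
    · rintro _ ⟨_, ⟨s, hs, rfl⟩, rfl⟩
      exact ⟨res M g s, res_mem M g hs, appS_res φ g s⟩

theorem res_unit {E E' : EtOver X} (g : E' ⟶ E) (s : sec (unitMod X) E) :
    fn E' (res (unitMod X) g s) = rho g (fn E s) := rfl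

theorem upΓ_natural {E E' : EtOver X} (g : E' ⟶ E) (a : Γ(E.obj.left.left, ⊤)) :
    rho g (upΓ E a) = upΓ E' (g.hom.left.left.appTop.hom a) := RingHom.congr_fun (rho_eq g) _

/-- The ideal sheaf of a datum in the structure sheaf. -/
def Sub.ideal (P : Sub (unitMod X) Set.univ) : IdealEt X where
  ideal E _ :=
    { carrier := {a | (show sec (unitMod X) E from upΓ E a) ∈ P.P E}
      add_mem' := fun {a b} ha hb => by
        change (show sec (unitMod X) E from upΓ E (a + b)) ∈ P.P E
        rw [map_add]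
        exact add_mem (s := P.P E) ha hb
      zero_mem' := by
        change (show sec (unitMod X) E from upΓ E 0) ∈ P.P E
        rw [map_zero]
        exact zero_mem (P.P E)
      smul_mem' := fun c a ha => by
        change (show sec (unitMod X) E from upΓ E (c * a)) ∈ P.P E
        rw [map_mul]
        exact (P.P E).smul_mem (upΓ E c) ha }
  map_le {E E'} g hE hE' := by
    rw [Ideal.map_le_iff_le_comap]
    intro a ha
    change (show sec (unitMod X) E' from upΓ E' _) ∈ P.P E'
    rw [← upΓ_natural, P.span E E' g hE hE' (below_univ E)]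
    exact res_mem (unitMod X) g ha

theorem Sub.ideal_qcoh (P : Sub (unitMod X) Set.univ) : P.ideal.IsQCoh := by
  intro E E' g hE hE' b hb
  have hb' : (show sec (unitMod X) E' from upΓ E' b) ∈ spanPull (unitMod X) (P.P E) g := by
    rw [← P.span E E' g hE hE' (below_univ E)]
    exact hb
  suffices ∀ y ∈ spanPull (unitMod X) (P.P E) g, (fn E' y).down ∈ (P.ideal.ideal E hE).map g.hom.left.left.appTop.hom
    from this _ hb'
  intro y hy
  induction hy using Submodule.span_induction with
  | mem y hy =>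
    obtain ⟨x, hx, rfl⟩ := hy
    rw [res_unit, rho_eq]
    exact Ideal.mem_map_of_mem _ (show (fn E x).down ∈ P.ideal.ideal E hE from hx)
  | zero => exact Ideal.zero_mem _
  | add p q _ _ hp hq => exact Ideal.add_mem _ hp hq
  | smul c p _ hp => exact Ideal.mul_mem_left _ _ hp

theorem Sub.ideal_fg (P : Sub (unitMod X) Set.univ) (E : EtOver X) (hE : IsAffine E.obj.left.left) :
    (P.ideal.ideal E hE).FG := by
  obtain ⟨s, hs⟩ := P.fg E hE (below_univ E)
  classical
  refine ⟨s.image (fun x => (fn E x).down), le_antisymm (Ideal.span_le.2 ?_) fun a ha => ?_⟩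
  · intro a ha
    obtain ⟨x, hx, rfl⟩ := Finset.mem_image.1 ha
    exact (hs ▸ Submodule.subset_span hx : x ∈ P.P E)
  · suffices ∀ y ∈ Submodule.span (Ring E) (s : Set (sec (unitMod X) E)),
        (fn E y).down ∈ Ideal.span ((s.image (fun x => (fn E x).down) : Finset Γ(E.obj.left.left, ⊤)) : Set Γ(E.obj.left.left, ⊤)) from
      this _ (hs ▸ ha)
    intro y hy
    induction hy using Submodule.span_induction with
    | mem y hy => exact Ideal.subset_span (Finset.mem_image_of_mem _ hy)
    | zero => exact Ideal.zero_mem _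
    | add p q _ _ hp hq => exact Ideal.add_mem _ hp hq
    | smul c p _ hp => exact Ideal.mul_mem_left _ _ hp

theorem mem_range_iff_zeroLocus {Z : Sp S} {i : Z ⟶ X} (hi : RepWith @IsClosedImmersion i) (E : EtOver X)
    [hE : IsAffine E.obj.left.left] (v : E.obj.left.left) :
    Points.ofPt E.obj.hom v ∈ Set.range (Points.map i) ↔
      v ∈ E.obj.left.left.zeroLocus (U := ⊤) ((idealOfRep hi.1).ideal E hE : Set Γ(E.obj.left.left, ⊤)) := by
  rw [← AlgSpRegLib.mem_range_iff (EtOver.isPullback_bcObj hi.1 E) v]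
  haveI : IsClosedImmersion (EtOver.bcπ hi.1 E).left := hi.property _ _ _ (EtOver.isPullback_bcObj hi.1 E)
  have h := (EtOver.bcπ hi.1 E).left.ker.coe_support_inter ⟨⊤, isAffineOpen_top _⟩
  rw [Scheme.Hom.support_ker, AlgSpRegLib.ideal_ker_top] at h
  simp only [Opens.coe_top, Set.inter_univ] at h
  change v ∈ Set.range (EtOver.bcπ hi.1 E).left ↔ _
  rw [← (EtOver.bcπ hi.1 E).left.isClosedEmbedding.isClosed_range.closure_eq]
  exact Set.ext_iff.1 h v

theorem ideal_eq_top_of_disjoint {Z : Sp S} {i : Z ⟶ X} (hi : RepWith @IsClosedImmersion i) (E : EtOver X)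
    (hE : IsAffine E.obj.left.left) (h : ∀ v, Points.ofPt E.obj.hom v ∉ Set.range (Points.map i)) :
    (idealOfRep hi.1).ideal E hE = ⊤ := by
  have : IsEmpty ↥(EtOver.bcObj hi.1 E).obj.left.left :=
    ⟨fun w => h _ ((AlgSpRegLib.mem_range_iff (EtOver.isPullback_bcObj hi.1 E) _).1 ⟨w, rfl⟩)⟩
  have : Subsingleton Γ((EtOver.bcObj hi.1 E).obj.left.left, ⊤) :=
    CommRingCat.subsingleton_of_isTerminal
      ((EtOver.bcObj hi.1 E).obj.left.left.sheaf.isTerminalOfEqEmpty (Subsingleton.elim _ _))
  rw [Ideal.eq_top_iff_one]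
  exact Subsingleton.elim (α := Γ((EtOver.bcObj hi.1 E).obj.left.left, ⊤)) _ _

theorem isCompact_of_cutOut (hqc : IsQuasiCompactSp X) {Z : Sp S} {i : Z ⟶ X} (hi : RepWith @IsClosedImmersion i)
    (hfg : ∀ (E : EtOver X) (hE : IsAffine E.obj.left.left), ((idealOfRep hi.1).ideal E hE).FG) :
    IsCompact (Set.range (Points.map i))ᶜ := by
  obtain ⟨V, p, hV, hp, hps⟩ := AlgSpLib.exists_affine_chart hqc
  let E := EtOver.mk p hp
  haveI : IsAffine E.obj.left.left := hV
  obtain ⟨s, hs⟩ := hfg E ‹_›
  have hpre : Points.ofPt E.obj.hom ⁻¹' (Set.range (Points.map i))ᶜ =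
      ⋃ a ∈ (s : Set Γ(E.obj.left.left, ⊤)), (E.obj.left.left.basicOpen a : Set E.obj.left.left) := by
    ext v
    rw [Set.mem_preimage, Set.mem_compl_iff, mem_range_iff_zeroLocus hi E, ← hs]
    erw [Scheme.zeroLocus_span]
    simp [Scheme.mem_zeroLocus_iff]
  rw [← Set.image_preimage_eq (Set.range (Points.map i))ᶜ (AlgSpLib.surjective_ofPt hps)]
  refine IsCompact.image ?_ (Points.continuous_ofPt _)
  change IsCompact (Points.ofPt E.obj.hom ⁻¹' _)
  rw [hpre]
  exact s.finite_toSet.isCompact_biUnion fun a _ => ((isAffineOpen_top _).basicOpen a).isCompact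

/-- The module of an ideal sheaf of a closed subspace. -/
theorem exists_ideal_module {Z₀ : Sp S} (hZ₀ : IsAlgSpace Z₀) (hX : IsAlgSpace X) {i₀ : Z₀ ⟶ X}
    (hi₀ : RepWith @IsClosedImmersion i₀) :
    ∃ (F : ModEt X) (ι : F ⟶ unitMod X), Mono ι ∧ BC F ∧ ∀ (E : EtOver X) (hE : IsAffine E.obj.left.left),
      Set.range (appS ι E) = {s | (fn E s).down ∈ (idealOfRep hi₀.1).ideal E hE} := by
  let I₀ := idealOfRep hi₀.1
  have hI₀ : I₀.IsQCoh := AlgSpRegLib.idealOfRep_isQCoh hZ₀ hX hi₀.1
    ((AlgSpLib.repWith_quasiCompact_iff hZ₀ hX hi₀.1).1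
      (AlgSpLib.repWith_mono (fun _ _ g (_ : IsClosedImmersion g) => (inferInstance : QuasiCompact g)) hi₀))
  let N : ∀ E : EtOver X, IsAffine E.obj.left.left → Submodule (Ring E) (sec (unitMod X) E) := fun E hE =>
    { carrier := {s | (fn E s).down ∈ I₀.ideal E hE}
      add_mem' := fun ha hb => Ideal.add_mem (I₀.ideal E hE) ha hb
      zero_mem' := (Ideal.zero_mem (I₀.ideal E hE))
      smul_mem' := fun c a ha => Ideal.mul_mem_left (I₀.ideal E hE) (show Ring E from c).down ha }
  have hspan : ∀ (E E' : EtOver X) (g : E' ⟶ E) (hE : IsAffine E.obj.left.left) (hE' : IsAffine E'.obj.left.left),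
      N E' hE' = spanPull (unitMod X) (N E hE) g := fun E E' g hE hE' => by
    refine le_antisymm (fun y hy => ?_) (Submodule.span_le.2 ?_)
    · have h : (fn E' y).down ∈ (I₀.ideal E hE).map g.hom.left.left.appTop.hom := hI₀ g hE hE' hy
      suffices ∀ b ∈ (I₀.ideal E hE).map g.hom.left.left.appTop.hom,
          (show sec (unitMod X) E' from upΓ E' b) ∈ spanPull (unitMod X) (N E hE) g from this _ h
      intro b hb
      induction hb using Submodule.span_induction with
      | mem b hb =>
        obtain ⟨a, ha, rfl⟩ := hb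
        rw [← upΓ_natural]
        exact res_mem (unitMod X) g (show (show sec (unitMod X) E from upΓ E a) ∈ N E hE from ha)
      | zero =>
        rw [map_zero]
        exact Submodule.zero_mem _
      | add p q _ _ hp hq =>
        rw [map_add]
        exact Submodule.add_mem _ hp hq
      | smul c p _ hp =>
        rw [smul_eq_mul, map_mul]
        exact Submodule.smul_mem _ (upΓ E' c) hp
    · rintro _ ⟨s, hs, rfl⟩
      have : (fn E' (res (unitMod X) g s)).down = g.hom.left.left.appTop.hom (fn E s).down := by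
        rw [res_unit, rho_eq]
        rfl
      change (fn E' (res (unitMod X) g s)).down ∈ I₀.ideal E' hE'
      rw [this]
      exact I₀.map_le g hE hE' (Ideal.mem_map_of_mem _ hs)
  exact exists_submodule (unitMod X) N
    (fun E hE n Y g hY hcov s hs => by
      haveI := hE
      exact mem_of_cover (unitMod X) bc_unitMod _ Y g hY hcov s fun i => hspan E (Y i) (g i) hE (hY i) ▸ hs i)
    (fun {E E'} g hE hE' s hs => by
      rw [hspan E E' g hE hE']
      exact res_mem (unitMod X) g hs)
    bc_unitMod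
    (fun {E E'} g hE hE' t ht => by
      rw [hspan E E' g hE hE'] at ht
      exact ht)

theorem exists_ideal [QuasiSeparatedSpace ↥S] (hX : IsAlgSpace X) (hqc : IsQuasiCompactSp X)
    (hqs : IsQuasiSeparatedSp X) {O : Set (Points X)} (hO : IsOpen O) (hc : IsCompact O) :
    ∃ I : IdealEt X, I.IsQCoh ∧ (∀ (E : EtOver X) (hE : IsAffine E.obj.left.left), (I.ideal E hE).FG) ∧
      ∃ (Z : Sp S) (i : Z ⟶ X), IsAlgSpace Z ∧ IsCutOutBy I i ∧ Set.range (Points.map i) = Oᶜ := by
  obtain ⟨Z₀, i₀, hZ₀, hi₀, hr₀, -⟩ := AlgSpRegLib.exists_isRedInduced hX Oᶜ hO.isClosed_compl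
  let I₀ := idealOfRep hi₀.1
  obtain ⟨F, ι, hι, hF, hr⟩ := exists_ideal_module hZ₀ hX hi₀
  haveI := hι
  have htop : ∀ (E : EtOver X), IsAffine E.obj.left.left → Below O E → Function.Surjective (appS ι E) :=
    fun E hE hb s => by
      have h1 : s ∈ {s : sec (unitMod X) E | (fn E s).down ∈ (idealOfRep hi₀.1).ideal E hE} := by
        change (fn E s).down ∈ I₀.ideal E hE
        rw [ideal_eq_top_of_disjoint hi₀ E hE fun v hv => by
          rw [hr₀] at hv
          exact hv (hb v)]
        trivial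
      exact (hr E hE).ge h1
  let G : Sub F O :=
    { P := fun E => LinearMap.range (appS (𝟙 F) E)
      fg := fun E hE hb => by
        rw [show LinearMap.range (appS (𝟙 F) E) = ⊤ from LinearMap.range_eq_top.2 fun y => ⟨y, rfl⟩]
        refine Submodule.fg_of_fg_map_injective (appS ι E) (injective_appS ι E) ?_
        rw [Submodule.map_top, LinearMap.range_eq_top.2 (htop E hE hb)]
        exact ⟨{(show sec (unitMod X) E from (1 : Ring E))}, eq_top_iff.2 fun y _ =>
          Submodule.mem_span_singleton.2 ⟨fn E y, mul_one (fn E y)⟩ |> fun h => by simpa using h⟩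
      span := fun E E' g hE hE' _ => by
        haveI := hE; haveI := hE'
        exact range_eq_spanPull hF (𝟙 F) g }
  obtain ⟨V, p, hV, hp, hps⟩ := AlgSpLib.exists_affine_chart hqc
  let EV := EtOver.mk p hp
  haveI : IsAffine EV.obj.left.left := hV
  obtain ⟨P, hP, -⟩ := exists_extension F hF hX hqc hqs hO hc G EV 0
    fun W _ _ b => by rw [map_zero]; exact Submodule.zero_mem _
  let P' := P.map ι
  obtain ⟨Z, i, hZ, hcut⟩ := AlgSpRegLib.exists_isCutOutBy hX P'.ideal P'.ideal_qcoh
  refine ⟨P'.ideal, P'.ideal_qcoh, P'.ideal_fg, Z, i, hZ, hcut, ?_⟩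
  obtain ⟨hi, hI⟩ := hcut
  have hle : ∀ (E : EtOver X) (hE : IsAffine E.obj.left.left), P'.ideal.ideal E hE ≤ I₀.ideal E hE :=
    fun E hE a ha => by
      obtain ⟨t, -, ht⟩ := (ha : (show sec (unitMod X) E from upΓ E a) ∈ (P.P E).map (appS ι E))
      have h : (show sec (unitMod X) E from upΓ E a) ∈ {s : sec (unitMod X) E | (fn E s).down ∈ I₀.ideal E hE} := (hr E hE).le ⟨t, ht⟩
      exact h
  ext y
  obtain ⟨v, rfl⟩ := AlgSpLib.surjective_ofPt hps y
  constructor
  · intro h hy
    let W : EV.obj.left.left.Opens := ⟨Points.ofPt EV.obj.hom ⁻¹' O, hO.preimage (Points.continuous_ofPt _)⟩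
    obtain ⟨A, hA, hvA, hAW⟩ := exists_isAffineOpen_mem_and_subset (X := EV.obj.left.left) (x := v) (U := W) hy
    haveI : IsAffine (openObj EV A).obj.left.left := hA
    have hb : Below O (openObj EV A) := fun x => by
      rw [ofPt_hom (openHom EV A) x]
      exact hAW x.2
    have h' : Points.ofPt (openObj EV A).obj.hom ⟨v, hvA⟩ ∈ Set.range (Points.map i) := by
      rw [ofPt_hom (openHom EV A)]
      exact h
    rw [mem_range_iff_zeroLocus hi, hI] at h'
    have h1 : (1 : Γ((openObj EV A).obj.left.left, ⊤)) ∈ P'.ideal.ideal (openObj EV A) hA := by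
      obtain ⟨t, ht⟩ := htop (openObj EV A) hA hb (upΓ (openObj EV A) 1)
      change (show sec (unitMod X) (openObj EV A) from upΓ (openObj EV A) 1) ∈ (P.P _).map (appS ι _)
      rw [hP (openObj EV A) hA hb]
      exact ⟨t, ⟨t, rfl⟩, ht⟩
    refine (Scheme.mem_zeroLocus_iff _ _ _).1 h' 1 h1 ?_
    rw [Scheme.basicOpen_of_isUnit _ isUnit_one]
    trivial
  · intro h
    rw [← hr₀] at h
    change Points.ofPt EV.obj.hom v ∈ _ at h ⊢
    rw [mem_range_iff_zeroLocus hi₀ EV] at h
    rw [mem_range_iff_zeroLocus hi EV, hI]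
    exact Scheme.zeroLocus_mono _ (hle EV ‹_›) h

end SubExt
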