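import Groth.Agent.ModEtQcLib.CohUnion
import Groth.Agent.FiltLib.Chain
import Groth.Agent.FiltLib.Elem

/-!
# Extending finite type quasi-coherent submodules from open subspaces
-/

set_option autoImplicit false
set_option backward.isDefEq.respectTransparency false
set_option backward.isDefEq.respectTransparency.types false
universe u
open CategoryTheory CategoryTheory.Limits AlgebraicGeometry Opposite AlgSp TopologicalSpace
open ModEtQc

noncomputable section

namespace SubExt

variable {S : Scheme.{u}} {X : Sp S}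

/-- An object of the site lying over a set of points. -/
def Below (O : Set (Points X)) (E : EtOver X) : Prop := ∀ x, Points.ofPt E.obj.hom x ∈ O

theorem ofPt_hom {E E' : EtOver X} (g : E' ⟶ E) (x : E'.obj.left.left) :
    Points.ofPt E'.obj.hom x = Points.ofPt E.obj.hom (g.hom.left.left x) := by
  rw [← EtOver.w g]
  exact AlgSpLib.ofPt_yon_comp g.hom.left E.obj.hom x

theorem Below.comp {O : Set (Points X)} {E E' : EtOver X} (h : Below O E) (g : E' ⟶ E) : Below O E' :=
  fun x => (ofPt_hom g x).symm ▸ h _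

theorem below_univ (E : EtOver X) : Below (Set.univ : Set (Points X)) E := fun _ => trivial

variable (M : ModEt X)

theorem res_id (E : EtOver X) (s : sec M E) : res M (𝟙 E) s = s := by
  change (M.val.map (𝟙 (op E))) s = s
  rw [PresheafOfModules.map_id]
  rfl

theorem spanPull_id {E : EtOver X} (N : Submodule (Ring E) (sec M E)) : spanPull M N (𝟙 E) = N := by
  have h : res M (𝟙 E) '' (N : Set (sec M E)) = N := by simp [res_id]
  change Submodule.span _ _ = _
  rw [h, Submodule.span_eq]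

theorem spanPull_comp {V Z W : EtOver X} (N : Submodule (Ring V) (sec M V)) (b : Z ⟶ V) (p : W ⟶ Z) :
    spanPull M (spanPull M N b) p = spanPull M N (p ≫ b) := by
  refine le_antisymm (Submodule.span_le.2 ?_) (Submodule.span_le.2 ?_)
  · rintro _ ⟨s, hs, rfl⟩
    exact res_mem_spanPull M N p b hs
  · rintro _ ⟨s, hs, rfl⟩
    rw [res_comp]
    exact Submodule.subset_span ⟨_, Submodule.subset_span ⟨s, hs, rfl⟩, rfl⟩

theorem spanPull_mono {V Z : EtOver X} {N N' : Submodule (Ring V) (sec M V)} (h : N ≤ N') (b : Z ⟶ V) :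
    spanPull M N b ≤ spanPull M N' b := Submodule.span_mono (Set.image_mono h)

theorem res_mem {V Z : EtOver X} {N : Submodule (Ring V) (sec M V)} (b : Z ⟶ V) {s : sec M V} (h : s ∈ N) :
    res M b s ∈ spanPull M N b := Submodule.subset_span ⟨s, h, rfl⟩

theorem spanPull_sup {V Z : EtOver X} (N N' : Submodule (Ring V) (sec M V)) (b : Z ⟶ V) :
    spanPull M (N ⊔ N') b = spanPull M N b ⊔ spanPull M N' b := by
  refine le_antisymm (Submodule.span_le.2 ?_) (sup_le (spanPull_mono M le_sup_left b) (spanPull_mono M le_sup_right b))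
  rintro _ ⟨s, hs, rfl⟩
  obtain ⟨x, hx, y, hy, rfl⟩ := Submodule.mem_sup.1 hs
  rw [map_add]
  exact Submodule.add_mem_sup (res_mem M b hx) (res_mem M b hy)

theorem exists_fg_le {E W : EtOver X} (N : Submodule (Ring E) (sec M E)) (g : W ⟶ E)
    (T : Submodule (Ring W) (sec M W)) (hT : T.FG) (h : T ≤ spanPull M N g) :
    ∃ Q : Submodule (Ring E) (sec M E), Q.FG ∧ Q ≤ N ∧ T ≤ spanPull M Q g := by
  classical
  obtain ⟨t, rfl⟩ := hT
  have h' : ∀ x : t, ∃ Q : Submodule (Ring E) (sec M E), Q.FG ∧ Q ≤ N ∧ x.1 ∈ spanPull M Q g := fun x => by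
    obtain ⟨T', hT', hx⟩ := Submodule.mem_span_finite_of_mem_span (h (Submodule.subset_span x.2))
    choose m hm hmt using fun y : T' => hT' y.2
    refine ⟨Submodule.span _ (Set.range m), Submodule.fg_span (Set.finite_range m),
      Submodule.span_le.2 (Set.range_subset_iff.2 hm), Submodule.span_mono ?_ hx⟩
    exact fun y hy => ⟨m ⟨y, hy⟩, Submodule.subset_span ⟨_, rfl⟩, hmt ⟨y, hy⟩⟩
  choose Q hQ hQN hxQ using h'
  refine ⟨⨆ x, Q x, Submodule.fg_iSup _ hQ, iSup_le hQN, Submodule.span_le.2 fun x hx => ?_⟩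
  exact spanPull_mono M (le_iSup Q ⟨x, hx⟩) g (hxQ ⟨x, hx⟩)

variable (hM : BC M)

include hM in
theorem mem_of_cover {E : EtOver X} [IsAffine E.obj.left.left] (N : Submodule (Ring E) (sec M E)) {n : ℕ}
    (Y : Fin n → EtOver X) (g : ∀ i, Y i ⟶ E) (hY : ∀ i, IsAffine (Y i).obj.left.left)
    (hcov : ∀ x, ∃ i, x ∈ Set.range (g i).hom.left.left) (s : sec M E)
    (hs : ∀ i, res M (g i) s ∈ spanPull M N (g i)) : s ∈ N := by
  rw [← spanPull_id M N]
  refine mem_spanPull_of_cover M N hM Y g hY hcov (𝟙 E) s fun i => ?_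
  rw [Category.comp_id]
  exact hs i

theorem exists_refine {E Z : EtOver X} [IsAffine Z.obj.left.left] {ι : Type*} (Y : ι → EtOver X)
    (a : ∀ i, Y i ⟶ E) (g : Z ⟶ E) (h : ∀ z, ∃ i, g.hom.left.left z ∈ Set.range (a i).hom.left.left) :
    ∃ (n : ℕ) (W : Fin n → EtOver X) (k : ∀ j, W j ⟶ Z), (∀ j, IsAffine (W j).obj.left.left) ∧
      (∀ x, ∃ j, x ∈ Set.range (k j).hom.left.left) ∧ ∀ j, ∃ (i : ι) (c : W j ⟶ Y i), c ≫ a i = k j ≫ g := by
  have hc : ∀ z, ∃ i, z ∈ Set.range (EtOver.pullbackFst g (a i)).hom.left.left := by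
    intro z
    obtain ⟨i, y, hy⟩ := h z
    obtain ⟨w, hw, -⟩ := Scheme.Pullback.exists_preimage_pullback z y (f := g.hom.left.left)
      (g := (a i).hom.left.left) hy.symm
    have sq : IsPullback (EtOver.pullbackFst g (a i)).hom.left.left (EtOver.pullbackSnd g (a i)).hom.left.left
        g.hom.left.left (a i).hom.left.left := (EtOver.isPullback _ _).map (EtOver.toScheme X)
    refine ⟨i, sq.isoPullback.inv w, ?_⟩
    rw [← Scheme.Hom.comp_apply, sq.isoPullback_inv_fst, hw]
  obtain ⟨n, W, k, hW, hk, hcov⟩ := exists_finite_affine_refinement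
    (ofArrows_mem_etTop (fun i => EtOver.pullbackObj g (a i)) (fun i => EtOver.pullbackFst g (a i)) hc :
      Sieve.ofArrows _ (fun i => EtOver.pullbackFst g (a i)) ∈ etTop X Z)
  refine ⟨n, W, k, hW, hcov, fun j => ?_⟩
  obtain ⟨V, c, _, ⟨i⟩, hck⟩ := hk j
  refine ⟨i, c ≫ EtOver.pullbackSnd g (a i), ?_⟩
  rw [← hck, Category.assoc, Category.assoc, EtOver.pullback_condition]

section MaxSub

variable {E : EtOver X} {n : ℕ} (Z : Fin n → EtOver X) (a : ∀ i, Z i ⟶ E)
  (N : ∀ i, Submodule (Ring (Z i)) (sec M (Z i)))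

/-- The sections whose restrictions lie in given submodules. -/
def maxSub : Submodule (Ring E) (sec M E) where
  carrier := {s | ∀ i, res M (a i) s ∈ N i}
  add_mem' hs ht i := by rw [map_add]; exact add_mem (hs i) (ht i)
  zero_mem' i := by rw [map_zero]; exact zero_mem _
  smul_mem' c s hs i := by rw [res_smul]; exact Submodule.smul_mem _ _ (hs i)

open scoped TensorProduct

set_option maxHeartbeats 1000000 in
include hM in
/-- Such submodules commute with flat base change. -/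
theorem mem_spanPull_maxSub [IsAffine E.obj.left.left] (hZ : ∀ i, IsAffine (Z i).obj.left.left) {E' : EtOver X}
    [IsAffine E'.obj.left.left] (g : E' ⟶ E) (t : sec M E')
    (ht : ∀ i, res M (EtOver.pullbackFst g (a i)) t ∈ spanPull M (N i) (EtOver.pullbackSnd g (a i))) :
    t ∈ spanPull M (maxSub M Z a N) g := by
  classical
  haveI := hZ
  let G : Over E := Over.mk g
  let Y : Fin n → Over E := fun i => Over.mk (a i)
  haveI : IsAffine G.left.obj.left.left := ‹IsAffine E'.obj.left.left›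
  haveI : ∀ i, IsAffine (Y i).left.obj.left.left := hZ
  haveI : Module.Flat (Ring E) (Ring G.left) := RingHom.flat_algebraMap_iff.1 (flat_rho G.hom)
  letI := fun i => secModuleBase M (Y i).hom
  haveI : ∀ i, IsScalarTower (Ring E) (Ring (Y i).left) (sec M (Y i).left) := fun i =>
    letI : Algebra (Ring E) (Ring (Y i).left) := (rho (Y i).hom).toAlgebra
    IsScalarTower.of_algebraMap_smul fun _ _ => rfl
  let Q : ∀ i, Submodule (Ring E) (sec M (Y i).left) := fun i =>
    (show Submodule (Ring (Y i).left) (sec M (Y i).left) from N i).restrictScalars (Ring E)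
  let r : ∀ i, sec M E →ₗ[Ring E] sec M (Y i).left := fun i =>
    { toFun := res M (a i), map_add' := map_add _, map_smul' := fun c x => res_smul M (a i) c x }
  let φ : sec M E →ₗ[Ring E] ∀ i, sec M (Y i).left ⧸ Q i := LinearMap.pi fun i => (Q i).mkQ ∘ₗ r i
  have eG := (isTilde_iff_evS M E).1 (hM E ‹_›) G ‹_›
  obtain ⟨x, rfl⟩ := eG.2 t
  have hx : φ.lTensor (Ring G.left) x = 0 := by
    refine (TensorProduct.piRight (Ring E) (Ring E) (Ring G.left) fun i => sec M (Y i).left ⧸ Q i).injective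
      (funext fun i => ?_)
    rw [piRight_proj, map_zero, Pi.zero_apply, ← LinearMap.comp_apply, ← LinearMap.lTensor_comp,
      show LinearMap.proj i ∘ₗ φ = (Q i).mkQ ∘ₗ r i from rfl, LinearMap.lTensor_comp, LinearMap.comp_apply]
    obtain ⟨ψ, hψ, hψt⟩ := exists_psi M G (Y i) (hM _ (hZ i))
    let W := EtOver.pullbackObj G.hom (Y i).hom
    let p₁ := EtOver.pullbackFst G.hom (Y i).hom
    let p₂ := EtOver.pullbackSnd G.hom (Y i).hom
    have hnat : ∀ y, ψ ((r i).lTensor (Ring G.left) y) = res M p₁ (evS M G y) := fun y => by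
      induction y using TensorProduct.induction_on with
      | zero => rw [map_zero, map_zero, map_zero, map_zero]
      | tmul c m =>
        rw [LinearMap.lTensor_tmul, hψt, evS_tmul, res_smul]
        refine congrArg _ ?_
        refine (res_comp M (a i) p₂ m).symm.trans ((res_congr M ?_ m).trans (res_comp M g p₁ m))
        exact (EtOver.pullback_condition G.hom (Y i).hom).symm
      | add y z hy hz => rw [map_add, map_add, map_add, map_add, hy, hz]
    have hgen : ∀ (c : Ring W) (m : sec M (Y i).left), m ∈ N i →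
        ∃ q, ψ ((Q i).subtype.lTensor (Ring G.left) q) = c • res M p₂ m := by
      intro c m hm
      obtain ⟨-, hpo⟩ := isPushout_rho G.hom (Y i).hom
      letI : Algebra (Ring G.left) (Ring W) := (rho p₁).toAlgebra
      letI : Algebra (Ring (Y i).left) (Ring W) := (rho p₂).toAlgebra
      letI : Algebra (Ring E) (Ring W) := (rho (p₁ ≫ G.hom)).toAlgebra
      letI : Algebra (Ring E) (Ring (Y i).left) := (rho (Y i).hom).toAlgebra
      haveI : IsScalarTower (Ring E) (Ring G.left) (Ring W) := IsScalarTower.of_algebraMap_eq' (rho_comp G.hom p₁)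
      haveI : IsScalarTower (Ring E) (Ring (Y i).left) (Ring W) := IsScalarTower.of_algebraMap_eq'
        ((congrArg rho (EtOver.pullback_condition G.hom (Y i).hom)).trans (rho_comp (Y i).hom p₂))
      haveI : Algebra.IsPushout (Ring E) (Ring G.left) (Ring (Y i).left) (Ring W) :=
        CommRingCat.isPushout_iff_isPushout.1 hpo
      obtain ⟨d, rfl⟩ := (Algebra.IsPushout.equiv (Ring E) (Ring G.left) (Ring (Y i).left) (Ring W)).surjective c
      induction d using TensorProduct.induction_on with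
      | zero => exact ⟨0, by rw [map_zero, map_zero, map_zero, zero_smul]⟩
      | tmul p q =>
        refine ⟨p ⊗ₜ[Ring E] ⟨q • m, Submodule.smul_mem (N i) q hm⟩, ?_⟩
        rw [LinearMap.lTensor_tmul, hψt, Algebra.IsPushout.equiv_tmul, mul_smul]
        exact congrArg (rho p₁ p • ·) (res_smul M p₂ q _)
      | add p q hp hq =>
        obtain ⟨u₁, hu₁⟩ := hp
        obtain ⟨u₂, hu₂⟩ := hq
        exact ⟨u₁ + u₂, by rw [map_add, map_add, hu₁, hu₂, map_add, add_smul]⟩
    have hmem : ∀ w ∈ spanPull M (N i) p₂, ∃ q, ψ ((Q i).subtype.lTensor (Ring G.left) q) = w := by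
      intro w hw
      suffices h : ∀ c : Ring W, ∃ q, ψ ((Q i).subtype.lTensor (Ring G.left) q) = c • w by
        obtain ⟨q, hq⟩ := h 1
        exact ⟨q, hq.trans (one_smul _ _)⟩
      induction hw using Submodule.span_induction with
      | mem w hw =>
        intro c
        obtain ⟨m, hm, rfl⟩ := hw
        exact hgen c m hm
      | zero => exact fun c => ⟨0, by rw [map_zero, map_zero, smul_zero]⟩
      | add v w _ _ hv hw =>
        intro c
        obtain ⟨u₁, hu₁⟩ := hv c
        obtain ⟨u₂, hu₂⟩ := hw c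
        exact ⟨u₁ + u₂, by rw [map_add, map_add, hu₁, hu₂, smul_add]⟩
      | smul d v _ hv =>
        intro c
        obtain ⟨u₁, hu₁⟩ := hv (c * d)
        exact ⟨u₁, hu₁.trans (mul_smul c d v)⟩
    obtain ⟨q, hq⟩ := hmem _ (ht i)
    rw [show (r i).lTensor (Ring G.left) x = (Q i).subtype.lTensor (Ring G.left) q from
      hψ.1 ((hnat x).trans hq.symm), ← LinearMap.comp_apply, ← LinearMap.lTensor_comp,
      (LinearMap.exact_subtype_mkQ (Q i)).linearMap_comp_eq_zero, LinearMap.lTensor_zero, LinearMap.zero_apply]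
  obtain ⟨y, hy⟩ := ((Module.Flat.lTensor_exact (Ring G.left) (LinearMap.exact_subtype_ker_map φ)) x).1 hx
  rw [← hy]
  clear hy hx ht
  induction y using TensorProduct.induction_on with
  | zero => rw [map_zero, map_zero]; exact Submodule.zero_mem _
  | tmul c s =>
    rw [LinearMap.lTensor_tmul, evS_tmul]
    refine Submodule.smul_mem _ _ (Submodule.subset_span ⟨s.1, fun i => ?_, rfl⟩)
    exact (Submodule.Quotient.mk_eq_zero (Q i)).1 (congrFun (LinearMap.mem_ker.1 s.2) i)
  | add p q hp hq => rw [map_add, map_add]; exact Submodule.add_mem _ hp hq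

end MaxSub

section Gen

variable (V : ∀ W : EtOver X, Submodule (Ring W) (sec M W) → Prop)

/-- The submodule glued from local values. -/
def genP (E : EtOver X) : Submodule (Ring E) (sec M E) where
  carrier := {s | ∀ (Z : EtOver X) (_ : IsAffine Z.obj.left.left) (a : Z ⟶ E) (N : Submodule (Ring Z) (sec M Z)),
    V Z N → res M a s ∈ N}
  add_mem' hs ht Z hZ a N h := by rw [map_add]; exact add_mem (hs Z hZ a N h) (ht Z hZ a N h)
  zero_mem' Z hZ a N h := by rw [map_zero]; exact zero_mem _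
  smul_mem' c s hs Z hZ a N h := by rw [res_smul]; exact Submodule.smul_mem _ _ (hs Z hZ a N h)

variable (huniq : ∀ (W : EtOver X), IsAffine W.obj.left.left → ∀ N N' : Submodule (Ring W) (sec M W),
    V W N → V W N' → N = N')
  (hst : ∀ (W W' : EtOver X), IsAffine W.obj.left.left → IsAffine W'.obj.left.left → ∀ (p : W' ⟶ W)
    (N : Submodule (Ring W) (sec M W)), V W N → V W' (spanPull M N p))

include huniq hst in
theorem genP_eq {E : EtOver X} [IsAffine E.obj.left.left] {N : Submodule (Ring E) (sec M E)} (h : V E N) :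
    genP M V E = N := by
  refine le_antisymm (fun s hs => res_id M E s ▸ hs E ‹_› (𝟙 E) N h) fun s hs Z hZ a N' h' => ?_
  rw [huniq Z hZ N' _ h' (hst E Z ‹_› hZ a N h)]
  exact res_mem M a hs

include hM huniq hst in
theorem genP_fg_span {E : EtOver X} [IsAffine E.obj.left.left] {n : ℕ} (Z : Fin n → EtOver X) (a : ∀ i, Z i ⟶ E)
    (hZ : ∀ i, IsAffine (Z i).obj.left.left) (hcov : ∀ x, ∃ i, x ∈ Set.range (a i).hom.left.left)
    (N : ∀ i, Submodule (Ring (Z i)) (sec M (Z i))) (hN : ∀ i, V (Z i) (N i)) (hfg : ∀ i, (N i).FG) :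
    (genP M V E).FG ∧ ∀ (E' : EtOver X) (g : E' ⟶ E), IsAffine E'.obj.left.left →
      genP M V E' = spanPull M (genP M V E) g := by
  haveI := hZ
  have hle : ∀ i, N i ≤ spanPull M (maxSub M Z a N) (a i) := fun i y hy =>
    mem_spanPull_maxSub M hM Z a N hZ (a i) y fun j => by
      haveI hW := (isPushout_rho (a i) (a j)).1
      rw [huniq _ hW _ _ (hst _ _ (hZ j) hW (EtOver.pullbackSnd (a i) (a j)) _ (hN j))
        (hst _ _ (hZ i) hW (EtOver.pullbackFst (a i) (a j)) _ (hN i))]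
      exact res_mem M _ hy
  choose Q hQ hQle hQN using fun i => exists_fg_le M (maxSub M Z a N) (a i) (N i) (hfg i) (hle i)
  let Qd := ⨆ i, Q i
  have hQd : ∀ i, spanPull M Qd (a i) = N i := fun i =>
    le_antisymm (Submodule.span_le.2 (by rintro _ ⟨s, hs, rfl⟩; exact iSup_le hQle hs i))
      ((hQN i).trans (spanPull_mono M (le_iSup Q i) (a i)))
  have hspan : ∀ (E' : EtOver X) (g : E' ⟶ E), IsAffine E'.obj.left.left →
      genP M V E' = spanPull M Qd g := by
    intro E' g hE'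
    refine le_antisymm (fun y hy => ?_) (Submodule.span_le.2 ?_)
    · obtain ⟨m, W, k, hW, hkc, hk⟩ := exists_refine Z a g fun z => hcov _
      refine mem_spanPull_of_cover M Qd hM W k hW hkc g y fun j => ?_
      obtain ⟨i, c, hc⟩ := hk j
      rw [← hc, ← spanPull_comp, hQd]
      exact hy _ (hW j) (k j) _ (hst _ _ (hZ i) (hW j) c _ (hN i))
    · rintro _ ⟨s, hs, rfl⟩ T hT p N' hN'
      obtain ⟨m, W, k, hW, hkc, hk⟩ := exists_refine Z a (p ≫ g) fun z => hcov _
      refine mem_of_cover M hM N' W k hW hkc _ fun j => ?_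
      obtain ⟨i, c, hc⟩ := hk j
      rw [huniq _ (hW j) (spanPull M N' (k j)) _ (hst _ _ hT (hW j) (k j) _ hN')
        (hst _ _ (hZ i) (hW j) c _ (hN i)), ← res_comp, ← res_comp, ← hQd i, spanPull_comp, hc]
      exact res_mem M _ hs
  have hE : genP M V E = Qd := (hspan E (𝟙 E) ‹_›).trans (spanPull_id M Qd)
  exact ⟨hE ▸ Submodule.fg_iSup _ hQ, fun E' g hE' => hE.symm ▸ hspan E' g hE'⟩

end Gen

/-- A finite type quasi-coherent submodule over a set of points. -/
structure Sub (O : Set (Points X)) where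
  /-- the sections over affine objects -/
  P : ∀ E : EtOver X, Submodule (Ring E) (sec M E)
  fg : ∀ E : EtOver X, IsAffine E.obj.left.left → Below O E → (P E).FG
  span : ∀ (E E' : EtOver X) (g : E' ⟶ E), IsAffine E.obj.left.left → IsAffine E'.obj.left.left → Below O E →
    P E' = spanPull M (P E) g

theorem exists_mem_range_eq {Z : Set (Points X)} {EV : EtOver X} (hinj : FiltLib.InjOver EV.obj.hom Z)
    {W : EtOver X} (b b' : W ⟶ EV) (w : W.obj.left.left) (hw : Points.ofPt W.obj.hom w ∈ Z) :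
    ∃ (W' : EtOver X) (k : W' ⟶ W), w ∈ Set.range k.hom.left.left ∧ k ≫ b = k ≫ b' := by
  obtain ⟨l, hl₁, hl₂⟩ : ∃ l : W ⟶ EtOver.prodObj EV EV,
      l ≫ EtOver.prodFst EV EV = b ∧ l ≫ EtOver.prodSnd EV EV = b' :=
    ⟨(EtOver.prodIsLimit EV EV).lift (BinaryFan.mk b b'), (EtOver.prodIsLimit EV EV).fac _ ⟨.left⟩,
      (EtOver.prodIsLimit EV EV).fac _ ⟨.right⟩⟩
  obtain ⟨δ, hδ₁, hδ₂⟩ : ∃ l : EV ⟶ EtOver.prodObj EV EV,
      l ≫ EtOver.prodFst EV EV = 𝟙 EV ∧ l ≫ EtOver.prodSnd EV EV = 𝟙 EV :=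
    ⟨(EtOver.prodIsLimit EV EV).lift (BinaryFan.mk (𝟙 EV) (𝟙 EV)), (EtOver.prodIsLimit EV EV).fac _ ⟨.left⟩,
      (EtOver.prodIsLimit EV EV).fac _ ⟨.right⟩⟩
  refine ⟨EtOver.pullbackObj l δ, EtOver.pullbackFst l δ, ?_, ?_⟩
  · have sq : IsPullback ((yon S).map (EtOver.prodFst EV EV).hom.left) ((yon S).map (EtOver.prodSnd EV EV).hom.left)
        EV.obj.hom EV.obj.hom := by
      change IsPullback ((yon S).map (EV.property.1.snd EV.obj.hom)) ((yon S).map (EV.property.1.fst' EV.obj.hom)) _ _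
      rw [Functor.relativelyRepresentable.map_fst']
      exact (EV.property.1.isPullback EV.obj.hom).flip
    obtain ⟨Ω, i₁, i₂, x, rfl⟩ := SpectralQuot.exists_geomPoint w
    let x' : Over.mk (x ≫ W.obj.left.hom) ⟶ W.obj.left := Over.homMk x rfl
    have e₁ : l.hom.left ≫ (EtOver.prodFst EV EV).hom.left = b.hom.left := congrArg (fun q => q.hom.left) hl₁
    have e₂ : l.hom.left ≫ (EtOver.prodSnd EV EV).hom.left = b'.hom.left := congrArg (fun q => q.hom.left) hl₂
    have d₁ : δ.hom.left ≫ (EtOver.prodFst EV EV).hom.left = 𝟙 EV.obj.left := congrArg (fun q => q.hom.left) hδ₁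
    have d₂ : δ.hom.left ≫ (EtOver.prodSnd EV EV).hom.left = 𝟙 EV.obj.left := congrArg (fun q => q.hom.left) hδ₂
    have he : x' ≫ b.hom.left = x' ≫ b'.hom.left := hinj Ω _ _ _
      (by rw [Functor.map_comp, Functor.map_comp, Category.assoc, Category.assoc, EtOver.w b, EtOver.w b'])
      (by
        rw [Over.comp_left, Scheme.Hom.comp_apply, ← ofPt_hom b]
        exact hw)
    have e : x' ≫ l.hom.left = (x' ≫ b.hom.left) ≫ δ.hom.left := FiltLib.ext_of_isPullback sq
      (by rw [Category.assoc, e₁, Category.assoc _ δ.hom.left, d₁, Category.comp_id])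
      (by rw [Category.assoc, e₂, Category.assoc _ δ.hom.left, d₂, Category.comp_id, he])
    obtain ⟨z, hz, -⟩ := Scheme.Pullback.exists_preimage_pullback (x (IsLocalRing.closedPoint Ω))
      ((x' ≫ b.hom.left).left (IsLocalRing.closedPoint Ω)) (f := l.hom.left.left) (g := δ.hom.left.left)
      (congrArg (fun φ : Over.mk (x ≫ W.obj.left.hom) ⟶ (EtOver.prodObj EV EV).obj.left =>
        φ.left (IsLocalRing.closedPoint Ω)) e)
    have sq' : IsPullback (EtOver.pullbackFst l δ).hom.left.left (EtOver.pullbackSnd l δ).hom.left.left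
        l.hom.left.left δ.hom.left.left := (EtOver.isPullback _ _).map (EtOver.toScheme X)
    refine ⟨sq'.isoPullback.inv z, ?_⟩
    rw [← Scheme.Hom.comp_apply, sq'.isoPullback_inv_fst, hz]
  · rw [← hl₁, ← hl₂, ← Category.assoc, ← Category.assoc, EtOver.pullback_condition, Category.assoc,
      Category.assoc, hδ₁, hδ₂]

theorem isCompact_preimage_ofPt [QuasiSeparatedSpace ↥S] (hX : IsAlgSpace X) (hqs : IsQuasiSeparatedSp X)
    (E : EtOver X) [IsAffine E.obj.left.left] {O : Set (Points X)} (hO : IsOpen O) (hc : IsCompact O) :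
    IsCompact (Points.ofPt E.obj.hom ⁻¹' O) := by
  have hqc : IsQuasiCompactMor E.obj.hom :=
    AlgSpLib.isQuasiCompactMor_of_qcSp_qsSp (IsAlgSpace.yon_obj E.obj.left) hX E.obj.hom
      (AlgSpLib.isQuasiCompactSp_yon E.obj.left) hqs
  have h := (Points.schemeHomeo E.obj.left).isCompact_preimage.2 (AlgSpLib.isCompact_preimage hX hqc hO hc)
  convert h using 1
  ext x
  simp only [Set.mem_preimage]
  rw [Points.ofPt_eq_map_ofScheme]
  rfl

include hM in
/-- The extension over one more affine chart. -/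
theorem exists_step [QuasiSeparatedSpace ↥S] (hX : IsAlgSpace X) (hqs : IsQuasiSeparatedSp X)
    {O₁ : Set (Points X)} (hO : IsOpen O₁) (hc : IsCompact O₁) (EV : EtOver X) [IsAffine EV.obj.left.left]
    (hinj : FiltLib.InjOver EV.obj.hom O₁ᶜ) (P : Sub M O₁) (E₀ : EtOver X) [IsAffine E₀.obj.left.left] (s : sec M E₀)
    (hs : ∀ Z : EtOver X, IsAffine Z.obj.left.left → Below O₁ Z → ∀ b : Z ⟶ E₀, res M b s ∈ P.P Z) :
    ∃ P₂ : Sub M (O₁ ∪ Set.range (Points.ofPt EV.obj.hom)),
      (∀ Z : EtOver X, IsAffine Z.obj.left.left → Below O₁ Z → P₂.P Z = P.P Z) ∧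
      ∀ Z : EtOver X, IsAffine Z.obj.left.left → Below (O₁ ∪ Set.range (Points.ofPt EV.obj.hom)) Z →
        ∀ b : Z ⟶ E₀, res M b s ∈ P₂.P Z := by
  classical
  let O' : EV.obj.left.left.Opens := ⟨Points.ofPt EV.obj.hom ⁻¹' O₁, hO.preimage (Points.continuous_ofPt _)⟩
  haveI : CompactSpace ↥(openObj EV O').obj.left.left :=
    isCompact_iff_compactSpace.1 (isCompact_preimage_ofPt hX hqs EV hO hc)
  obtain ⟨n, Z, g, hZ, hgc⟩ := exists_finite_cover (openObj EV O')
  let a : ∀ i, Z i ⟶ EV := fun i => g i ≫ openHom EV O'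
  haveI := hZ
  have hZb : ∀ i, Below O₁ (Z i) := fun i => Below.comp (fun x => by
    rw [ofPt_hom (openHom EV O') x]
    exact x.2) (g i)
  have hcov : ∀ (W : EtOver X), Below O₁ W → ∀ (b : W ⟶ EV) (w : W.obj.left.left),
      ∃ i, b.hom.left.left w ∈ Set.range (a i).hom.left.left := by
    intro W hW b w
    have hw : Points.ofPt EV.obj.hom (b.hom.left.left w) ∈ O₁ := by
      rw [← ofPt_hom b w]
      exact hW w
    obtain ⟨i, z, hz⟩ := hgc ⟨b.hom.left.left w, hw⟩
    exact ⟨i, z, congrArg Subtype.val hz⟩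
  haveI := compactSpace_prodObj hX hqs E₀ EV
  obtain ⟨m, Y, h, hY, hhc⟩ := exists_finite_cover (EtOver.prodObj E₀ EV)
  haveI := hY
  let N : ∀ i, Submodule (Ring (Z i)) (sec M (Z i)) := fun i => P.P (Z i)
  have hfst : ∀ (W : EtOver X) (i : Fin n) (b : W ⟶ EV), IsAffine W.obj.left.left →
      spanPull M (N i) (EtOver.pullbackSnd b (a i)) = P.P (EtOver.pullbackObj b (a i)) := fun W i b hW => by
    haveI := hW
    exact (P.span _ _ _ (hZ i) (isPushout_rho b (a i)).1 (hZb i)).symm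
  have hmax : ∀ i, P.P (Z i) ≤ spanPull M (maxSub M Z a N) (a i) := fun i y hy =>
    mem_spanPull_maxSub M hM Z a N hZ (a i) y fun j => by
      rw [hfst _ j _ (hZ i), P.span _ _ (EtOver.pullbackFst (a i) (a j)) (hZ i) (isPushout_rho (a i) (a j)).1 (hZb i)]
      exact res_mem M _ hy
  have hmax' : ∀ l, Submodule.span (Ring (Y l)) {res M (h l ≫ EtOver.prodFst E₀ EV) s} ≤
      spanPull M (maxSub M Z a N) (h l ≫ EtOver.prodSnd E₀ EV) := fun l => by
    rw [Submodule.span_le, Set.singleton_subset_iff]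
    refine mem_spanPull_maxSub M hM Z a N hZ _ _ fun j => ?_
    rw [hfst _ j _ (hY l), ← res_comp]
    exact hs _ (isPushout_rho _ (a j)).1 ((hZb j).comp (EtOver.pullbackSnd _ _)) _
  choose Q₁ hQ₁ hQ₁le hQ₁N using fun i =>
    exists_fg_le M (maxSub M Z a N) (a i) (P.P (Z i)) (P.fg _ (hZ i) (hZb i)) (hmax i)
  choose Q₂ hQ₂ hQ₂le hQ₂N using fun l =>
    exists_fg_le M (maxSub M Z a N) _ _ (Submodule.fg_span_singleton _) (hmax' l)
  let Q := (⨆ i, Q₁ i) ⊔ ⨆ l, Q₂ l
  have hQle : Q ≤ maxSub M Z a N := sup_le (iSup_le hQ₁le) (iSup_le hQ₂le)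
  have h1 : ∀ W : EtOver X, IsAffine W.obj.left.left → Below O₁ W → ∀ b : W ⟶ EV, spanPull M Q b = P.P W := by
    intro W hW hWb b
    obtain ⟨m', T, k, hT, hkc, hk⟩ := exists_refine Z a b (hcov W hWb b)
    refine le_antisymm (Submodule.span_le.2 ?_) fun y hy => ?_
    · rintro _ ⟨q, hq, rfl⟩
      refine mem_of_cover M hM (P.P W) T k hT hkc _ fun j => ?_
      obtain ⟨i, c, hc⟩ := hk j
      rw [← P.span _ _ (k j) hW (hT j) hWb, P.span _ _ c (hZ i) (hT j) (hZb i), ← res_comp, ← hc, res_comp]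
      exact res_mem M c (hQle hq i)
    · refine mem_spanPull_of_cover M Q hM T k hT hkc b y fun j => ?_
      obtain ⟨i, c, hc⟩ := hk j
      have h' : res M (k j) y ∈ spanPull M (P.P W) (k j) := res_mem M _ hy
      rw [← P.span _ _ (k j) hW (hT j) hWb, P.span _ _ c (hZ i) (hT j) (hZb i)] at h'
      rw [← hc, ← spanPull_comp]
      exact spanPull_mono M ((hQ₁N i).trans (spanPull_mono M ((le_iSup Q₁ i).trans le_sup_left) _)) c h'
  let V : ∀ W : EtOver X, Submodule (Ring W) (sec M W) → Prop := fun W L =>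
    (Below O₁ W ∧ L = P.P W) ∨ ∃ b : W ⟶ EV, L = spanPull M Q b
  have h2 : ∀ W : EtOver X, IsAffine W.obj.left.left → ∀ b b' : W ⟶ EV, spanPull M Q b ≤ spanPull M Q b' := by
    intro W hW b b' y hy
    choose Y' q hq hq' using fun w : W.obj.left.left =>
      show ∃ (Y : EtOver X) (q : Y ⟶ W), w ∈ Set.range q.hom.left.left ∧ (Below O₁ Y ∨ q ≫ b = q ≫ b') from by
        by_cases hw : Points.ofPt W.obj.hom w ∈ O₁
        · let U : W.obj.left.left.Opens := ⟨Points.ofPt W.obj.hom ⁻¹' O₁, hO.preimage (Points.continuous_ofPt _)⟩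
          exact ⟨openObj W U, openHom W U, ⟨⟨w, hw⟩, rfl⟩, Or.inl fun x => by
            rw [ofPt_hom (openHom W U) x]
            exact x.2⟩
        · obtain ⟨Y, q, h₁, h₂⟩ := exists_mem_range_eq hinj b b' w hw
          exact ⟨Y, q, h₁, Or.inr h₂⟩
    obtain ⟨m', T, k, hT, hkc, hk⟩ := exists_refine Y' q (𝟙 W) fun w => ⟨w, hq w⟩
    refine mem_spanPull_of_cover M Q hM T k hT hkc b' y fun j => ?_
    obtain ⟨w, c, hc⟩ := hk j
    rw [Category.comp_id] at hc
    have h' : res M (k j) y ∈ spanPull M Q (k j ≫ b) := res_mem_spanPull M Q _ _ hy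
    rcases hq' w with hb | hb
    · rwa [h1 _ (hT j) (hb.comp c), ← h1 _ (hT j) (hb.comp c) (k j ≫ b')] at h'
    · rwa [show k j ≫ b = k j ≫ b' by rw [← hc, Category.assoc, Category.assoc, hb]] at h'
  have huniq : ∀ (W : EtOver X), IsAffine W.obj.left.left → ∀ L L' : Submodule (Ring W) (sec M W),
      V W L → V W L' → L = L' := by
    rintro W hW L L' (⟨hb, rfl⟩ | ⟨b, rfl⟩) (⟨hb', rfl⟩ | ⟨b', rfl⟩)
    · rfl
    · exact (h1 W hW hb b').symm
    · exact h1 W hW hb' b
    · exact le_antisymm (h2 W hW b b') (h2 W hW b' b)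
  have hst : ∀ (W W' : EtOver X), IsAffine W.obj.left.left → IsAffine W'.obj.left.left → ∀ (p : W' ⟶ W)
      (L : Submodule (Ring W) (sec M W)), V W L → V W' (spanPull M L p) := by
    rintro W W' hW hW' p L (⟨hb, rfl⟩ | ⟨b, rfl⟩)
    · exact Or.inl ⟨hb.comp p, (P.span _ _ p hW hW' hb).symm⟩
    · exact Or.inr ⟨p ≫ b, spanPull_comp M Q b p⟩
  have hgen : ∀ E : EtOver X, IsAffine E.obj.left.left → Below (O₁ ∪ Set.range (Points.ofPt EV.obj.hom)) E →
      (genP M V E).FG ∧ ∀ (E' : EtOver X) (g : E' ⟶ E), IsAffine E'.obj.left.left →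
        genP M V E' = spanPull M (genP M V E) g := by
    intro E hE hEb
    choose Y' q hq hq' using fun w : E.obj.left.left =>
      show ∃ (Y : EtOver X) (q : Y ⟶ E), w ∈ Set.range q.hom.left.left ∧ (Below O₁ Y ∨ Nonempty (Y ⟶ EV)) from by
        rcases hEb w with hw | ⟨v, hv⟩
        · let U : E.obj.left.left.Opens := ⟨Points.ofPt E.obj.hom ⁻¹' O₁, hO.preimage (Points.continuous_ofPt _)⟩
          exact ⟨openObj E U, openHom E U, ⟨⟨w, hw⟩, rfl⟩, Or.inl fun x => by
            rw [ofPt_hom (openHom E U) x]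
            exact x.2⟩
        · have sq : IsPullback ((yon S).map (EtOver.prodFst E EV).hom.left) ((yon S).map (EtOver.prodSnd E EV).hom.left)
              E.obj.hom EV.obj.hom := by
            change IsPullback ((yon S).map (EV.property.1.snd E.obj.hom)) ((yon S).map (EV.property.1.fst' E.obj.hom)) _ _
            rw [Functor.relativelyRepresentable.map_fst']
            exact (EV.property.1.isPullback E.obj.hom).flip
          obtain ⟨z, hz, -⟩ := (AlgSpLib.ofPt_eq_ofPt_iff sq w v).1 hv.symm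
          exact ⟨_, EtOver.prodFst E EV, ⟨z, hz⟩, Or.inr ⟨EtOver.prodSnd E EV⟩⟩
    obtain ⟨m', T, k, hT, hkc, hk⟩ := exists_refine Y' q (𝟙 E) fun w => ⟨w, hq w⟩
    have hval : ∀ j, ∃ L, V (T j) L ∧ L.FG := fun j => by
      obtain ⟨w, c, -⟩ := hk j
      rcases hq' w with hb | ⟨⟨b⟩⟩
      · exact ⟨_, Or.inl ⟨hb.comp c, rfl⟩, P.fg _ (hT j) (hb.comp c)⟩
      · exact ⟨_, Or.inr ⟨c ≫ b, rfl⟩, spanPull_fg M Q _
          ((Submodule.fg_iSup _ hQ₁).sup (Submodule.fg_iSup _ hQ₂))⟩
    choose L hL hLfg using hval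
    exact genP_fg_span M hM V huniq hst T k hT hkc L hL hLfg
  refine ⟨⟨genP M V, fun E hE hb => (hgen E hE hb).1, fun E E' g hE hE' hb => (hgen E hE hb).2 E' g hE'⟩,
    fun W hW hb => ?_, fun W hW hWb b T hT p L hL => ?_⟩
  · haveI := hW
    exact genP_eq M V huniq hst (Or.inl ⟨hb, rfl⟩)
  · rw [← res_comp]
    rcases hL with ⟨hb, rfl⟩ | ⟨b', rfl⟩
    · exact hs T hT hb _
    · haveI := hT
      obtain ⟨l, hl₁, hl₂⟩ : ∃ l : T ⟶ EtOver.prodObj E₀ EV,
          l ≫ EtOver.prodFst E₀ EV = p ≫ b ∧ l ≫ EtOver.prodSnd E₀ EV = b' :=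
        ⟨(EtOver.prodIsLimit E₀ EV).lift (BinaryFan.mk (p ≫ b) b'), (EtOver.prodIsLimit E₀ EV).fac _ ⟨.left⟩,
          (EtOver.prodIsLimit E₀ EV).fac _ ⟨.right⟩⟩
      obtain ⟨m', R, k, hR, hkc, hk⟩ := exists_refine Y h l fun w => hhc _
      refine mem_spanPull_of_cover M Q hM R k hR hkc b' _ fun j => ?_
      obtain ⟨i, c, hc'⟩ := hk j
      rw [← res_comp, ← hl₁, ← hl₂, ← Category.assoc (k j), ← Category.assoc (k j), ← hc', Category.assoc, Category.assoc,
        res_comp]
      refine res_mem_spanPull M Q c _ ?_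
      exact spanPull_mono M ((le_iSup Q₂ i).trans le_sup_right) _ (hQ₂N i (Submodule.subset_span rfl))

include hM in
/-- Extension from a quasi-compact open to the whole space. -/
theorem exists_extension [QuasiSeparatedSpace ↥S] (hX : IsAlgSpace X) (hqc : IsQuasiCompactSp X)
    (hqs : IsQuasiSeparatedSp X) {O₀ : Set (Points X)} (hO : IsOpen O₀) (hc : IsCompact O₀) (G : Sub M O₀)
    (E₀ : EtOver X) [IsAffine E₀.obj.left.left] (s : sec M E₀)
    (hs : ∀ Z : EtOver X, IsAffine Z.obj.left.left → Below O₀ Z → ∀ b : Z ⟶ E₀, res M b s ∈ G.P Z) :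
    ∃ P : Sub M Set.univ, (∀ Z : EtOver X, IsAffine Z.obj.left.left → Below O₀ Z → P.P Z = G.P Z) ∧
      ∀ Z : EtOver X, IsAffine Z.obj.left.left → ∀ b : Z ⟶ E₀, res M b s ∈ P.P Z := by
  suffices h : ∃ P : Sub M Set.univ, (∀ Z : EtOver X, IsAffine Z.obj.left.left → Below O₀ Z → P.P Z = G.P Z) ∧
      ∀ Z : EtOver X, IsAffine Z.obj.left.left → Below Set.univ Z → ∀ b : Z ⟶ E₀, res M b s ∈ P.P Z by
    obtain ⟨P, h₁, h₂⟩ := h
    exact ⟨P, h₁, fun Z hZ => h₂ Z hZ (below_univ Z)⟩
  refine FiltLib.open_induction hX hqc hqs (fun O => ∃ P : Sub M O,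
    (∀ Z : EtOver X, IsAffine Z.obj.left.left → Below O₀ Z → P.P Z = G.P Z) ∧
      ∀ Z : EtOver X, IsAffine Z.obj.left.left → Below O Z → ∀ b : Z ⟶ E₀, res M b s ∈ P.P Z) O₀ hO hc
    ⟨G, fun _ _ _ => rfl, hs⟩ ?_
  rintro O₁ V g hO₁ hc₁ hsub hV hg hgi ⟨P, hP₁, hP₂⟩
  haveI : IsAffine (EtOver.mk g hg).obj.left.left := hV
  obtain ⟨P₂, h₁, h₂⟩ := exists_step M hM hX hqs hO₁ hc₁ (EtOver.mk g hg) hgi P E₀ s hP₂
  exact ⟨P₂, fun Z hZ hb => (h₁ Z hZ (fun x => hsub (hb x))).trans (hP₁ Z hZ hb), h₂⟩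

namespace Sub

variable {M}

theorem mem_of_cover' {O : Set (Points X)} (P : Sub M O) (hM : BC M) {E : EtOver X} [IsAffine E.obj.left.left]
    (hb : Below O E) {n : ℕ} (Y : Fin n → EtOver X) (g : ∀ i, Y i ⟶ E) (hY : ∀ i, IsAffine (Y i).obj.left.left)
    (hcov : ∀ x, ∃ i, x ∈ Set.range (g i).hom.left.left) (s : sec M E) (hs : ∀ i, res M (g i) s ∈ P.P (Y i)) :
    s ∈ P.P E :=
  mem_of_cover M hM _ Y g hY hcov s fun i => P.span E (Y i) (g i) ‹_› (hY i) hb ▸ hs i

/-- The module of a global datum. -/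
theorem exists_module (P : Sub M Set.univ) (hM : BC M) :
    ∃ (F : ModEt X) (ι : F ⟶ M), Mono ι ∧ F.IsQuasicoherent ∧
      ∀ (E : EtOver X), IsAffine E.obj.left.left → Set.range (appS ι E) = (P.P E : Set (sec M E)) := by
  obtain ⟨F, ι, hι, hF, hr⟩ := exists_submodule M (fun E _ => P.P E)
    (fun E hE n Y g hY hcov s hs => by
      haveI := hE
      exact P.mem_of_cover' hM (below_univ E) Y g hY hcov s hs)
    (fun {E E'} g hE hE' s hs => by
      rw [P.span E E' g hE hE' (below_univ E)]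
      exact res_mem M g hs)
    hM
    (fun {E E'} g hE hE' t ht => by
      rw [P.span E E' g hE hE' (below_univ E)] at ht
      exact ht)
  exact ⟨F, ι, hι, isQuasicoherent_of_bc F hF, hr⟩

/-- It is of finite type. -/
theorem isFiniteType (P : Sub M Set.univ) {F : ModEt X} [F.IsQuasicoherent] (ι : F ⟶ M) [Mono ι]
    (hr : ∀ (E : EtOver X), IsAffine E.obj.left.left → Set.range (appS ι E) = (P.P E : Set (sec M E))) :
    F.IsFiniteType := by
  refine isFiniteType_of_cover F (bc_of_isQuasicoherent F) _ (fun E => E.2) coversTop_affine fun E => ?_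
  refine Module.Finite.of_fg_top ?_
  refine Submodule.fg_of_fg_map_injective (appS ι E.1) (injective_appS ι _) ?_
  rw [Submodule.map_top]
  have : LinearMap.range (appS ι E.1) = P.P E.1 := SetLike.coe_injective (hr E.1 E.2)
  exact this ▸ P.fg E.1 E.2 (below_univ _)

end Sub

end SubExt
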