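import Groth.Agent.SubExtLib.Apps
import Groth.Agent.ModEtQcLib.AffineColim
import Groth.Agent.AlgSpAffLib.Relations

/-!
# Preliminaries for quotients of finitely presented modules
-/

set_option autoImplicit false
set_option backward.isDefEq.respectTransparency false
set_option backward.isDefEq.respectTransparency.types false
universe u
open CategoryTheory CategoryTheory.Limits AlgebraicGeometry Opposite AlgSp TopologicalSpace
open ModEtQc
open scoped TensorProduct

noncomputable section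

namespace SubExt

variable {S : Scheme.{u}} {X : Sp S}

theorem lTensor_bc {A B : ModEt X} (χ : A ⟶ B) {E E' : EtOver X} (g : E' ⟶ E) :
    ⇑(appS χ E') ∘ ⇑(evS A (Over.mk g)) =
      ⇑(evS B (Over.mk g)) ∘ ⇑((appS χ E).lTensor (Ring (Over.mk g).left)) :=
  funext fun t => (evS_natural χ (Over.mk g) t).symm

theorem surjective_of_bc {A B : ModEt X} (hA : BC A) (hB : BC B) (χ : A ⟶ B) {E E' : EtOver X}
    [IsAffine E.obj.left.left] [IsAffine E'.obj.left.left] (g : E' ⟶ E) (h : Function.Surjective (appS χ E)) :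
    Function.Surjective (appS χ E') := fun y => by
  obtain ⟨t, rfl⟩ := ((isTilde_iff_evS B E).1 (hB E ‹_›) (Over.mk g) ‹_›).2 y
  obtain ⟨s, rfl⟩ := LinearMap.lTensor_surjective (Ring (Over.mk g).left) h t
  exact ⟨evS A (Over.mk g) s, congrFun (lTensor_bc χ g) s⟩

theorem bijective_of_bc {A B : ModEt X} (hA : BC A) (hB : BC B) (χ : A ⟶ B) {E E' : EtOver X}
    [IsAffine E.obj.left.left] [IsAffine E'.obj.left.left] (g : E' ⟶ E) (h : Function.Bijective (appS χ E)) :
    Function.Bijective (appS χ E') := by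
  have eA := (isTilde_iff_evS A E).1 (hA E ‹_›) (Over.mk g) ‹_›
  have eB := (isTilde_iff_evS B E).1 (hB E ‹_›) (Over.mk g) ‹_›
  refine (Function.Bijective.of_comp_iff _ eA).1 ?_
  rw [lTensor_bc χ g]
  exact eB.comp ((LinearEquiv.ofBijective (appS χ E) h).lTensor (Ring (Over.mk g).left)).bijective

theorem fp_of_bc {A : ModEt X} (hA : BC A) {E E' : EtOver X} [IsAffine E.obj.left.left]
    [IsAffine E'.obj.left.left] (g : E' ⟶ E) (h : Module.FinitePresentation (Ring E) (sec A E)) :
    Module.FinitePresentation (Ring E') (sec A E') :=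
  letI : Algebra (Ring E) (Ring (Over.mk g).left) := (rho g).toAlgebra
  Module.FinitePresentation.of_equiv (R := Ring (Over.mk g).left) (M := Ring (Over.mk g).left ⊗[Ring E] sec A E)
    (LinearEquiv.ofBijective
      ({ toFun := evS A (Over.mk g), map_add' := map_add _, map_smul' := fun b x => evS_smul A (Over.mk g) b x } :
        Ring (Over.mk g).left ⊗[Ring E] sec A E →ₗ[Ring (Over.mk g).left] sec A (Over.mk g).left)
      ((isTilde_iff_evS A E).1 (hA E ‹_›) (Over.mk g) ‹_›))

theorem injective_of_affine {A B : ModEt X} (χ : A ⟶ B) (W : EtOver X)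
    (h : ∀ Y : EtOver X, IsAffine Y.obj.left.left → (Y ⟶ W) → Function.Injective (appS χ Y)) :
    Function.Injective (appS χ W) := fun x y e => by
  obtain ⟨κ, Y, g, hY, hc⟩ := exists_affine_cover W
  exact eq_of_cover A Y g hc x y fun i => h (Y i) (hY i) (g i) (by rw [appS_res, appS_res, e])

theorem bijective_of_cover {A B : ModEt X} (χ : A ⟶ B) (W : EtOver X) {ι : Type*} (Y : ι → EtOver X)
    (g : ∀ i, Y i ⟶ W) (hcov : ∀ x, ∃ i, x ∈ Set.range (g i).hom.left.left)
    (h : ∀ i (Y' : EtOver X), IsAffine Y'.obj.left.left → (Y' ⟶ Y i) → Function.Bijective (appS χ Y')) :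
    Function.Bijective (appS χ W) := by
  have hinj : ∀ (i : ι) (Z : EtOver X), (Z ⟶ Y i) → Function.Injective (appS χ Z) := fun i Z a =>
    injective_of_affine χ Z fun Y' hY' b => (h i Y' hY' (b ≫ a)).1
  refine ⟨fun x y e => eq_of_cover A Y g hcov x y fun i => hinj i _ (𝟙 _) (by rw [appS_res, appS_res, e]),
    fun y => ?_⟩
  choose κ T k hT hk using fun i => exists_affine_cover (Y i)
  choose t ht using fun p : Σ i, κ i => (h p.1 _ (hT p.1 p.2) (k p.1 p.2)).2 (res B (k p.1 p.2 ≫ g p.1) y)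
  have hcov' : ∀ x, ∃ p : Σ i, κ i, x ∈ Set.range (k p.1 p.2 ≫ g p.1).hom.left.left := fun x => by
    obtain ⟨i, z, rfl⟩ := hcov x
    obtain ⟨l, w, rfl⟩ := hk i z
    exact ⟨⟨i, l⟩, w, rfl⟩
  obtain ⟨x, hx⟩ := exists_glue_sec A (fun p : Σ i, κ i => T p.1 p.2) (fun p => k p.1 p.2 ≫ g p.1) hcov' t
    fun p q => hinj p.1 _ (EtOver.pullbackFst _ _ ≫ k p.1 p.2) (by
      rw [appS_res, appS_res, ht, ht, ← res_comp, ← res_comp, EtOver.pullback_condition])
  exact ⟨x, eq_of_cover B _ (fun p : Σ i, κ i => k p.1 p.2 ≫ g p.1) hcov' _ _ fun p => by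
    rw [← appS_res, hx, ht]⟩

theorem surjective_of_cover {A B : ModEt X} (hA : BC A) (hB : BC B) (φ : A ⟶ B) {E : EtOver X}
    [IsAffine E.obj.left.left] {n : ℕ} (Y : Fin n → EtOver X) (g : ∀ i, Y i ⟶ E)
    (hY : ∀ i, IsAffine (Y i).obj.left.left) (hcov : ∀ x, ∃ i, x ∈ Set.range (g i).hom.left.left)
    (h : ∀ i, Function.Surjective (appS φ (Y i))) : Function.Surjective (appS φ E) := fun y =>
  mem_of_cover B hB (LinearMap.range (appS φ E)) Y g hY hcov y fun i => by
    haveI := hY i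
    rw [← range_eq_spanPull hA φ (g i)]
    exact h i _

theorem fp_of_cover {A : ModEt X} (hA : BC A) {E : EtOver X} [IsAffine E.obj.left.left] {n : ℕ}
    (Y : Fin n → EtOver X) (g : ∀ i, Y i ⟶ E) (hY : ∀ i, IsAffine (Y i).obj.left.left)
    (hcov : ∀ x, ∃ i, x ∈ Set.range (g i).hom.left.left)
    (h : ∀ i, Module.FinitePresentation (Ring (Y i)) (sec A (Y i))) :
    Module.FinitePresentation (Ring E) (sec A E) := by
  let Z : Fin n → Over E := fun i => Over.mk (g i)
  haveI : ∀ i, IsAffine (Z i).left.obj.left.left := hY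
  haveI : ∀ i, Module.Flat (Ring E) (Ring (Z i).left) := fun i =>
    RingHom.flat_algebraMap_iff.1 (flat_rho (Z i).hom)
  have hfam : FaithfulFamily (Ring E) (fun i => Ring (Z i).left) :=
    faithfulFamily_of_flat _ inferInstance (surjective_comap (fun i => (Z i).left) (fun i => (Z i).hom) hcov)
  have hf : ∀ i, Module.FinitePresentation (Ring (Z i).left) (Ring (Z i).left ⊗[Ring E] sec A E) := fun i => by
    haveI : Module.FinitePresentation (Ring (Z i).left) (sec A (Z i).left) := h i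
    exact Module.FinitePresentation.of_equiv
      (LinearEquiv.ofBijective
        ({ toFun := evS A (Z i), map_add' := map_add _, map_smul' := fun b x => evS_smul A (Z i) b x } :
          Ring (Z i).left ⊗[Ring E] sec A E →ₗ[Ring (Z i).left] sec A (Z i).left)
        ((isTilde_iff_evS A E).1 (hA E ‹_›) (Z i) (hY i))).symm
  haveI : Module.Finite (Ring E) (sec A E) := finite_of_family (fun i => Ring (Z i).left) hfam _ fun i => by
    haveI := hf i
    infer_instance
  exact finitePresentation_of_family (fun i => Ring (Z i).left) hfam _ hf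

theorem appS_add' {M M' : ModEt X} (φ ψ : M ⟶ M') (E : EtOver X) (x : sec M E) :
    appS (φ + ψ) E x = appS φ E x + appS ψ E x := rfl

theorem appS_neg' {M M' : ModEt X} (φ : M ⟶ M') (E : EtOver X) (x : sec M E) :
    appS (-φ) E x = -appS φ E x := rfl

theorem appS_comp' {M M' M'' : ModEt X} (φ : M ⟶ M') (ψ : M' ⟶ M'') (E : EtOver X) (x : sec M E) :
    appS (φ ≫ ψ) E x = appS ψ E (appS φ E x) := rfl

theorem fib_condition_aux {D : Type*} [Category D] [Preadditive D] {A B C K : D} [HasBinaryBiproduct A B]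
    (u₁ : A ⟶ C) (u₂ : B ⟶ C) (k : K ⟶ A ⊞ B) (h : k ≫ biprod.desc u₁ (-u₂) = 0) :
    (k ≫ biprod.fst) ≫ u₁ = (k ≫ biprod.snd) ≫ u₂ := by
  rw [biprod.desc_eq, Preadditive.comp_add, Preadditive.comp_neg, Preadditive.comp_neg, add_neg_eq_zero,
    ← Category.assoc, ← Category.assoc] at h
  exact h

theorem biprod_sec_ext {A B : ModEt X} {E : EtOver X} {z z' : sec (A ⊞ B) E}
    (h₁ : appS biprod.fst E z = appS biprod.fst E z') (h₂ : appS biprod.snd E z = appS biprod.snd E z') : z = z' := by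
  have ht : ∀ w : sec (A ⊞ B) E,
      appS biprod.inl E (appS biprod.fst E w) + appS biprod.inr E (appS biprod.snd E w) = w := fun w =>
    congrArg (fun φ => appS φ E w) (biprod.total (X := A) (Y := B))
  rw [← ht z, ← ht z', h₁, h₂]

section Fib

variable {A B C : ModEt X} (u₁ : A ⟶ C) (u₂ : B ⟶ C)

/-- The fibre product of two maps of modules. -/
def fib : ModEt X := kernel (biprod.desc u₁ (-u₂))

/-- The first projection. -/
def fib₁ : fib u₁ u₂ ⟶ A := kernel.ι (biprod.desc u₁ (-u₂)) ≫ biprod.fst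

/-- The second projection. -/
def fib₂ : fib u₁ u₂ ⟶ B := kernel.ι (biprod.desc u₁ (-u₂)) ≫ biprod.snd

theorem fib_condition : fib₁ u₁ u₂ ≫ u₁ = fib₂ u₁ u₂ ≫ u₂ :=
  fib_condition_aux u₁ u₂ _ (kernel.condition (biprod.desc u₁ (-u₂)))

theorem fib_ext {E : EtOver X} {x y : sec (fib u₁ u₂) E} (h₁ : appS (fib₁ u₁ u₂) E x = appS (fib₁ u₁ u₂) E y)
    (h₂ : appS (fib₂ u₁ u₂) E x = appS (fib₂ u₁ u₂) E y) : x = y :=
  injective_appS (kernel.ι (biprod.desc u₁ (-u₂))) E (biprod_sec_ext h₁ h₂)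

theorem fib_mk {E : EtOver X} (a : sec A E) (b : sec B E) (h : appS u₁ E a = appS u₂ E b) :
    ∃ x, appS (fib₁ u₁ u₂) E x = a ∧ appS (fib₂ u₁ u₂) E x = b := by
  let z : sec (A ⊞ B) E := appS biprod.inl E a + appS biprod.inr E b
  have hz : appS (biprod.desc u₁ (-u₂)) E z = 0 := by
    change appS (biprod.desc u₁ (-u₂)) E (_ + _) = 0
    rw [map_add, ← appS_comp', ← appS_comp', biprod.inl_desc, biprod.inr_desc, appS_neg', h, add_neg_cancel]
  obtain ⟨x, hx⟩ := (exact_appS (T := ShortComplex.mk (kernel.ι (biprod.desc u₁ (-u₂))) (biprod.desc u₁ (-u₂))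
    (kernel.condition _)) (ShortComplex.exact_of_f_is_kernel _ (kernelIsKernel _)) E z).1 hz
  change appS (kernel.ι (biprod.desc u₁ (-u₂))) E x = z at hx
  refine ⟨x, ?_, ?_⟩
  · change appS biprod.fst E (appS (kernel.ι (biprod.desc u₁ (-u₂))) E x) = a
    rw [hx, map_add, ← appS_comp', ← appS_comp', biprod.inl_fst, biprod.inr_fst]
    exact add_zero a
  · change appS biprod.snd E (appS (kernel.ι (biprod.desc u₁ (-u₂))) E x) = b
    rw [hx, map_add, ← appS_comp', ← appS_comp', biprod.inl_snd, biprod.inr_snd]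
    exact zero_add b

theorem bijective_fib₁ (E : EtOver X) (h : Function.Bijective (appS u₂ E)) :
    Function.Bijective (appS (fib₁ u₁ u₂) E) := by
  refine ⟨fun x y e => fib_ext u₁ u₂ e (h.1 ?_), fun a => ?_⟩
  · have hc := fun z => congrArg (fun φ => appS φ E z) (fib_condition u₁ u₂)
    exact ((hc x).symm.trans (congrArg (appS u₁ E) e)).trans (hc y)
  · obtain ⟨b, hb⟩ := h.2 (appS u₁ E a)
    obtain ⟨x, hx, -⟩ := fib_mk u₁ u₂ a b hb.symm
    exact ⟨x, hx⟩

theorem bc_fib (hA : BC A) (hB : BC B) (hC : BC C) : BC (fib u₁ u₂) :=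
  bc_kernel _ (bc_middle (T := ShortComplex.mk (biprod.inl : A ⟶ A ⊞ B) biprod.snd biprod.inl_snd)
    (ShortComplex.Splitting.ofHasBinaryBiproduct A B).shortExact hA hB) hC

end Fib

theorem exists_sub_mem_finset [QuasiSeparatedSpace ↥S] (hX : IsAlgSpace X) (hqc : IsQuasiCompactSp X)
    (hqs : IsQuasiSeparatedSp X) (K : ModEt X) (hK : BC K) {ι : Type*} (E : ι → EtOver X)
    (hE : ∀ l, IsAffine (E l).obj.left.left) (d : ∀ l, sec K (E l)) (s : Finset ι) :
    ∃ P : Sub K Set.univ, ∀ l ∈ s, d l ∈ P.P (E l) := by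
  classical
  induction s using Finset.induction_on with
  | empty => exact ⟨Sub.zero K _, fun l hl => absurd hl (Finset.notMem_empty l)⟩
  | insert a s _ ih =>
    obtain ⟨P, hP⟩ := ih
    haveI := hE a
    obtain ⟨Q, hQ⟩ := exists_sub_mem hX hqc hqs K hK (E a) (d a)
    refine ⟨P.sum Q, fun l hl => ?_⟩
    rcases Finset.mem_insert.1 hl with rfl | hl
    · exact Submodule.mem_sup_right hQ
    · exact Submodule.mem_sup_left (hP l hl)

theorem mem_range_of_eq {F K : ModEt X} (j : F ⟶ K) {E : EtOver X} (N : Submodule (Ring E) (sec K E))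
    (h : Set.range (appS j E) = (N : Set (sec K E))) {x : sec K E} (hx : x ∈ N) : ∃ f, appS j E f = x := by
  have : x ∈ Set.range (appS j E) := by rw [h]; exact hx
  exact this

theorem kill_aux {F K P : ModEt X} (j : F ⟶ K) (m : K ⟶ P) {E : EtOver X} {k : sec K E} {d : sec P E}
    (h₁ : ∃ f, appS j E f = k) (h₂ : appS m E k = d) : appS (cokernel.π (j ≫ m)) E d = 0 := by
  obtain ⟨f, rfl⟩ := h₁
  subst h₂
  rw [← appS_comp', ← appS_comp', ← Category.assoc, cokernel.condition]
  rfl

/-- Killing finitely many sections of the kernel by a finite type submodule of it. -/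
theorem exists_kill [QuasiSeparatedSpace ↥S] (hX : IsAlgSpace X) (hqc : IsQuasiCompactSp X)
    (hqs : IsQuasiSeparatedSp X) {P M : ModEt X} (hP : BC P) (hM : BC M) (φ : P ⟶ M) {ι : Type*} [Finite ι]
    (E : ι → EtOver X) (hE : ∀ l, IsAffine (E l).obj.left.left) (d : ∀ l, sec P (E l))
    (hd : ∀ l, appS φ (E l) (d l) = 0) :
    ∃ (P' : ModEt X) (π : P ⟶ P') (φ' : P' ⟶ M), BC P' ∧ π ≫ φ' = φ ∧ (∀ l, appS π (E l) (d l) = 0) ∧
      ∀ W : EtOver X, IsAffine W.obj.left.left → Function.Surjective (appS π W) ∧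
        (Module.FinitePresentation (Ring W) (sec P W) → Module.FinitePresentation (Ring W) (sec P' W)) := by
  classical
  haveI := Fintype.ofFinite ι
  have hK := bc_kernel φ hP hM
  choose k hk using fun l => (exact_appS (T := ShortComplex.mk (kernel.ι φ) φ (kernel.condition φ))
    (ShortComplex.exact_of_f_is_kernel _ (kernelIsKernel _)) (E l) (d l)).1 (hd l)
  obtain ⟨Q, hQ⟩ := exists_sub_mem_finset hX hqc hqs (kernel φ) hK E hE k Finset.univ
  obtain ⟨F, j, hj, hFq, hr⟩ := Q.exists_module hK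
  haveI := hj
  haveI := hFq
  haveI := Q.isFiniteType j hr
  have hF : BC F := bc_of_isQuasicoherent F
  have hz : (j ≫ kernel.ι φ) ≫ φ = 0 := by rw [Category.assoc, kernel.condition, comp_zero]
  refine ⟨cokernel (j ≫ kernel.ι φ), cokernel.π _, cokernel.desc _ φ hz, bc_cokernel _ hF hP, cokernel.π_desc _ _ _,
    fun l => ?_, fun W hW => ?_⟩
  · exact kill_aux j (kernel.ι φ) (mem_range_of_eq j (Q.P (E l)) (hr _ (hE l)) (hQ l (Finset.mem_univ l))) (hk l)
  · haveI := hW
    have hs := surjective_appS_of_epi (cokernel.π (j ≫ kernel.ι φ)) hP (bc_cokernel _ hF hP) W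
    refine ⟨hs, fun h => ?_⟩
    haveI := h
    refine Module.finitePresentation_of_surjective (appS (cokernel.π (j ≫ kernel.ι φ)) W) hs ?_
    rw [(exact_cokernel_appS (j ≫ kernel.ι φ) hF hP W).linearMap_ker_eq]
    exact range_fg hF _ W

/-- Maps out of a finite free module given by sections over a terminal object. -/
theorem exists_free_map {A : ModEt X} {T : EtOver X} (hT : ∀ E : EtOver X, Nonempty (Unique (E ⟶ T))) {n : ℕ}
    (x : Fin n → sec A T) : ∃ L : AlgSpAff.freeN X n ⟶ A,
      ∀ i, ∃ a, appS L T a = x i := by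
  classical
  let toT : ∀ E : EtOver X, E ⟶ T := fun E => ((hT E).some).default
  have hto : ∀ {E : EtOver X} (a : E ⟶ T), a = toT E := fun {E} a => ((hT E).some).uniq a
  let G : Fin n → (unitModEt X ⟶ A) := fun i =>
    A.unitHomEquiv.symm (PresheafOfModules.sectionsMk (M := A.val) (fun E => res A (toT E.unop) (x i))
      fun U V g => (res_comp A (toT U.unop) g.unop (x i)).symm.trans (res_congr A (hto _) _))
  have hG : ∀ i, appS (G i) T (show sec (unitModEt X) T from (1 : Ring T)) = x i := fun i => by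
    refine (congrArg (fun s : A.sections => s.val (op T)) (A.unitHomEquiv.apply_symm_apply _)).trans ?_
    change res A (toT T) (x i) = x i
    rw [← hto (𝟙 T), res_id]
  refine ⟨∑ i, AlgSpAff.frπ i ≫ G i, fun i =>
    ⟨appS (AlgSpAff.frι i) T (show sec (unitModEt X) T from (1 : Ring T)), ?_⟩⟩
  rw [AlgSpAff.appS_sum]
  refine (Finset.sum_eq_single i (fun j _ hj => ?_) (fun h => absurd (Finset.mem_univ _) h)).trans ?_
  · rw [appS_comp', ← appS_comp' (AlgSpAff.frι i), AlgSpAff.frι_π, if_neg hj, show appS (0 : unitModEt X ⟶ unitModEt X) T _ = 0 from rfl, map_zero]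
  · rw [appS_comp', ← appS_comp' (AlgSpAff.frι i), AlgSpAff.frι_π, if_pos rfl]
    exact hG i

theorem fp_free (n : ℕ) (E : EtOver X) :
    Module.FinitePresentation (Ring E) (sec (AlgSpAff.freeN X n) E) := by
  classical
  let q : (Fin n → Ring E) →ₗ[Ring E] sec (AlgSpAff.freeN X n) E :=
    ∑ i, (appS (AlgSpAff.frι i) E).comp
      (show (Fin n → Ring E) →ₗ[Ring E] sec (unitModEt X) E from LinearMap.proj i)
  have hq : ∀ a, q a = ∑ i, appS (AlgSpAff.frι i) E (show sec (unitModEt X) E from a i) := fun a =>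
    LinearMap.sum_apply _ _ _
  refine Module.FinitePresentation.of_equiv (LinearEquiv.ofBijective q ⟨fun a b e => funext fun i => ?_, fun x =>
    ⟨fun i => (show Ring E from appS (AlgSpAff.frπ i) E x), (hq _).trans (AlgSpAff.free_eq_sum E x).symm⟩⟩)
  have := congrArg (appS (AlgSpAff.frπ i) E) e
  rw [hq, hq, AlgSpAff.frπ_sum_ι, AlgSpAff.frπ_sum_ι] at this
  exact this

end SubExt
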