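import Groth.Agent.SubExtLib.QuotFinal

/-!
# Finite sums of finitely presented modules
-/

set_option autoImplicit false
set_option backward.isDefEq.respectTransparency false
set_option backward.isDefEq.respectTransparency.types false
universe u
open CategoryTheory CategoryTheory.Limits AlgebraicGeometry Opposite AlgSp TopologicalSpace
open ModEtQc
open scoped TensorProduct

noncomputable section

namespace SubExt

variable {S : Scheme.{u}} {X : Sp S}

theorem appS_finset_sum {M M' : ModEt X} {ι : Type*} (s : Finset ι) (φ : ι → (M ⟶ M')) (E : EtOver X)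
    (x : sec M E) : appS (∑ i ∈ s, φ i) E x = ∑ i ∈ s, appS (φ i) E x := by
  classical
  induction s using Finset.induction with
  | empty => rw [Finset.sum_empty, Finset.sum_empty]; rfl
  | insert a s ha ih => rw [Finset.sum_insert ha, Finset.sum_insert ha, appS_add', ih]

section Retracts

variable {A : ModEt X} {κ : Type*} [Fintype κ] {B : κ → ModEt X} (i : ∀ k, B k ⟶ A) (p : ∀ k, A ⟶ B k)
  (htot : (∑ k, p k ≫ i k) = 𝟙 A)

include htot in
theorem sum_retract (E : EtOver X) (x : sec A E) : ∑ k, appS (i k) E (appS (p k) E x) = x :=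
  (appS_finset_sum Finset.univ (fun k => p k ≫ i k) E x).symm.trans (congrArg (fun φ => appS φ E x) htot)

include htot in
theorem bc_of_retracts (hB : ∀ k, BC (B k)) : BC A := by
  intro E hE
  rw [isTilde_iff_evS]
  intro Z hZ
  have e := fun k => (isTilde_iff_evS (B k) E).1 (hB k E hE) Z hZ
  refine ⟨(injective_iff_map_eq_zero _).2 fun t ht => ?_, fun y => ?_⟩
  · have h0 : ∀ k, (appS (p k) E).lTensor (Ring Z.left) t = 0 := fun k => (e k).1 (by
      rw [evS_natural, ht, map_zero, map_zero])
    have h1 : t = (∑ k, (appS (i k) E).comp (appS (p k) E)).lTensor (Ring Z.left) t := by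
      conv_lhs => rw [← LinearMap.id_apply (R := Ring E) t, ← LinearMap.lTensor_id]
      congr 2
      refine LinearMap.ext fun x => ?_
      rw [LinearMap.sum_apply]
      exact (sum_retract i p htot E x).symm
    rw [h1, show LinearMap.lTensor (Ring Z.left) (∑ k, (appS (i k) E).comp (appS (p k) E)) =
      ∑ k, LinearMap.lTensor (Ring Z.left) ((appS (i k) E).comp (appS (p k) E)) from
      map_sum (LinearMap.lTensorHom (Ring Z.left)) _ _, LinearMap.sum_apply]
    refine Finset.sum_eq_zero fun k _ => ?_
    rw [LinearMap.lTensor_comp_apply, h0, map_zero]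
  · choose t ht using fun k => (e k).2 (appS (p k) Z.left y)
    refine ⟨∑ k, (appS (i k) E).lTensor (Ring Z.left) (t k), ?_⟩
    rw [map_sum]
    refine Eq.trans ?_ (sum_retract i p htot Z.left y)
    exact Finset.sum_congr rfl fun k _ => by rw [evS_natural, ht]

include htot in
theorem fp_of_retracts (hd : ∀ k, i k ≫ p k = 𝟙 (B k)) (ho : ∀ k l, k ≠ l → i k ≫ p l = 0) (E : EtOver X)
    (h : ∀ k, Module.FinitePresentation (Ring E) (sec (B k) E)) :
    Module.FinitePresentation (Ring E) (sec A E) := by
  classical
  haveI := h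
  let q : (∀ k, sec (B k) E) →ₗ[Ring E] sec A E := ∑ k, (appS (i k) E).comp (LinearMap.proj k)
  have hq : ∀ a, q a = ∑ k, appS (i k) E (a k) := fun a => LinearMap.sum_apply _ _ _
  have hl : ∀ a l, appS (p l) E (q a) = a l := fun a l => by
    rw [hq, map_sum]
    refine (Finset.sum_eq_single l (fun k _ hk => ?_) (fun hn => absurd (Finset.mem_univ _) hn)).trans ?_
    · exact (congrArg (fun φ => appS φ E (a k)) (ho k l hk)).trans rfl
    · exact congrArg (fun φ => appS φ E (a l)) (hd l)
  exact Module.FinitePresentation.of_equiv (LinearEquiv.ofBijective q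
    ⟨fun a b e => funext fun l => by rw [← hl a l, e, hl], fun x =>
      ⟨fun k => appS (p k) E x, (hq _).trans (sum_retract i p htot E x)⟩⟩)

end Retracts

theorem bc_fp_biproduct {κ : Type} [Fintype κ] (P : κ → ModEt X) [HasBiproduct P] (hP : ∀ k, BC (P k))
    (hfp : ∀ k (E : EtOver X), IsAffine E.obj.left.left → Module.FinitePresentation (Ring E) (sec (P k) E)) :
    BC (⨁ P) ∧ (⨁ P).IsFinitePresentation := by
  classical
  have htot : (∑ k, biproduct.π P k ≫ biproduct.ι P k) = 𝟙 (⨁ P) := biproduct.total
  have h := bc_of_retracts (biproduct.ι P) (biproduct.π P) htot hP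
  refine ⟨h, isFinitePresentation_of_cover _ h _ (fun E => E.2) coversTop_affine fun E => ?_⟩
  exact fp_of_retracts (biproduct.ι P) (biproduct.π P) htot (fun k => biproduct.ι_π_self P k)
    (fun k l hkl => biproduct.ι_π_ne P hkl) E.1 fun k => hfp k E.1 E.2

end SubExt
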