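import Groth.Agent.SubExtLib.QuotStep
import Groth.Agent.AlgSpAffLib.PushAff

/-!
# The presentation over one more affine chart
-/

set_option autoImplicit false
set_option backward.isDefEq.respectTransparency false
set_option backward.isDefEq.respectTransparency.types false
universe u
open CategoryTheory CategoryTheory.Limits AlgebraicGeometry Opposite AlgSp TopologicalSpace
open ModEtQc

noncomputable section

namespace SubExt

variable {S : Scheme.{u}} {X : Sp S} {V : Over S}

theorem isQuasiSeparatedSp_yon_of_affine [QuasiSeparatedSpace ↥S] (V : Over S) [IsAffine V.left] :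
    IsQuasiSeparatedSp ((yon S).obj V) := by
  haveI : QuasiSeparated V.hom := by
    haveI : QuasiSeparated (V.hom ≫ terminal.from S) :=
      HasAffineProperty.iff_of_isAffine.2 (inferInstanceAs (QuasiSeparatedSpace V.left))
    exact QuasiSeparated.of_comp V.hom (terminal.from S)
  exact (repWith_diag_yon_iff _ V).2 ((quasiSeparated_iff _).1 inferInstance)

/-- The final object of the site of a scheme. -/
def T0 (V : Over S) : EtOver ((yon S).obj V) :=
  EtOver.mk (𝟙 _) (AlgSpLib.repWith_of_isIso (P := @Etale) _)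

/-- The map to the final object. -/
def toT (E : EtOver ((yon S).obj V)) : E ⟶ T0 V :=
  EtOver.homMk ((yon S).preimage E.obj.hom) (by
    rw [Functor.map_preimage]
    exact Category.comp_id _)

theorem eq_toT {E : EtOver ((yon S).obj V)} (a : E ⟶ T0 V) : a = toT E :=
  EtOver.hom_ext _ _ ((yon S).map_injective
    (((Category.comp_id _).symm.trans (EtOver.w a)).trans ((yon S).map_preimage E.obj.hom).symm))

variable (g : (yon S).obj V ⟶ X) (he : IsEtaleMor g)

theorem exists_chart_module [QuasiSeparatedSpace ↥S] (hX : IsAlgSpace X) (hqs : IsQuasiSeparatedSp X)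
    [IsAffine V.left] {R : ModEt X} (hR : BC R) {O : Set (Points X)} (hO : IsOpen O) (hc : IsCompact O)
    (hfp : ∀ E : EtOver X, IsAffine E.obj.left.left → Below O E → Module.FinitePresentation (Ring E) (sec R E))
    {r : ℕ} (x : Fin r → sec ((resEt he).obj R) (T0 V)) :
    ∃ (L : ModEt ((yon S).obj V)) (χ : L ⟶ (resEt he).obj R), BC L ∧
      Module.FinitePresentation (Ring (T0 V)) (sec L (T0 V)) ∧ (∀ k, ∃ l, appS χ (T0 V) l = x k) ∧
      ∀ W : EtOver ((yon S).obj V), Below O ((EtOver.postcomp g he).obj W) → Function.Bijective (appS χ W) := by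
  classical
  let H := (resEt he).obj R
  have hH : BC H := bc_resEt he R hR
  let EV := (EtOver.postcomp g he).obj (T0 V)
  haveI : IsAffine (T0 V).obj.left.left := ‹IsAffine V.left›
  haveI : IsAffine EV.obj.left.left := ‹IsAffine V.left›
  let D : (T0 V).obj.left.left.Opens := ⟨Points.ofPt EV.obj.hom ⁻¹' O, hO.preimage (Points.continuous_ofPt _)⟩
  haveI : CompactSpace ↥(openObj (T0 V) D).obj.left.left :=
    isCompact_iff_compactSpace.1 (isCompact_preimage_ofPt hX hqs EV hO hc)
  obtain ⟨m, Z, a₀, hZ, hgc⟩ := exists_finite_cover (openObj (T0 V) D)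
  haveI := hZ
  let a : ∀ i, Z i ⟶ T0 V := fun i => a₀ i ≫ openHom (T0 V) D
  have hZb : ∀ i, Below O ((EtOver.postcomp g he).obj (Z i)) := fun i x => by
    rw [ofPt_hom ((EtOver.postcomp g he).map (a i)) x]
    exact (a₀ i).hom.left.left x |>.2
  have hZfp : ∀ i, Module.FinitePresentation (Ring (Z i)) (sec H (Z i)) := fun i => hfp _ (hZ i) (hZb i)
  choose Q hQ _ hQtop using fun i => exists_fg_le H ⊤ (a i) ⊤ (by
    haveI := hZfp i
    exact Module.Finite.fg_top) (by
    rw [← LinearMap.range_eq_top.2 (show Function.Surjective (appS (𝟙 H) (Z i)) from fun y => ⟨y, rfl⟩),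
      ← LinearMap.range_eq_top.2 (show Function.Surjective (appS (𝟙 H) (T0 V)) from fun y => ⟨y, rfl⟩)]
    exact (range_eq_spanPull hH (𝟙 H) (a i)).le)
  obtain ⟨N, y, hy⟩ := Submodule.fg_iff_exists_fin_generating_family.1
    ((Submodule.fg_iSup _ hQ).sup (Submodule.fg_span (Set.finite_range x)))
  obtain ⟨L₀, hL₀⟩ := exists_free_map (A := H) (T := T0 V) (fun E => ⟨⟨⟨toT E⟩, eq_toT⟩⟩) y
  let F₀ := AlgSpAff.freeN ((yon S).obj V) N
  have hF₀ : BC F₀ := AlgSpAff.bc_free N
  have hrange : (⨆ i, Q i) ⊔ Submodule.span _ (Set.range x) ≤ LinearMap.range (appS L₀ (T0 V)) := by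
    rw [← hy, Submodule.span_le]
    rintro _ ⟨i, rfl⟩
    exact hL₀ i
  have hsur : ∀ i, Function.Surjective (appS L₀ (Z i)) := fun i => by
    rw [← LinearMap.range_eq_top, range_eq_spanPull hF₀ L₀ (a i), eq_top_iff]
    exact (hQtop i).trans (spanPull_mono H (((le_iSup Q i).trans le_sup_left).trans hrange) (a i))
  have hker : ∀ i, (LinearMap.ker (appS L₀ (Z i))).FG := fun i => by
    haveI := hZfp i
    haveI := fp_free (X := (yon S).obj V) N (Z i)
    exact Module.FinitePresentation.fg_ker _ (hsur i)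
  choose s hs using hker
  obtain ⟨L, π, χ, hL, hπ, hkill, hfp'⟩ := exists_kill (IsAlgSpace.yon_obj V) (AlgSpLib.isQuasiCompactSp_yon V)
    (isQuasiSeparatedSp_yon_of_affine V) hF₀ hH L₀ (ι := Σ i, ↥(s i)) (fun p => Z p.1) (fun p => hZ p.1)
    (fun p => p.2.1) fun p => LinearMap.mem_ker.1 ((hs p.1).le (Submodule.subset_span p.2.2))
  have hπχ : ∀ (E : EtOver ((yon S).obj V)) (z : sec F₀ E), appS χ E (appS π E z) = appS L₀ E z := fun E z =>
    congrArg (fun ψ => appS ψ E z) hπ
  have hbij : ∀ i, Function.Bijective (appS χ (Z i)) := fun i => by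
    refine ⟨(injective_iff_map_eq_zero _).2 fun l hl => ?_, fun z => ?_⟩
    · obtain ⟨z, rfl⟩ := (hfp' (Z i) (hZ i)).1 l
      rw [hπχ] at hl
      have hz : z ∈ Submodule.span _ ((s i : Finset (sec F₀ (Z i))) : Set (sec F₀ (Z i))) :=
        (hs i).ge (LinearMap.mem_ker.2 hl)
      refine LinearMap.mem_ker.1 ((Submodule.span_le.2 fun d hd => ?_) hz)
      exact LinearMap.mem_ker.2 (hkill ⟨i, ⟨d, hd⟩⟩)
    · obtain ⟨w, hw⟩ := hsur i z
      exact ⟨appS π (Z i) w, (hπχ _ w).trans hw⟩
  refine ⟨L, χ, hL, (hfp' (T0 V) ‹_›).2 (fp_free N (T0 V)), fun k => ?_, fun W hW => ?_⟩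
  · obtain ⟨z, hz⟩ := hrange (Submodule.mem_sup_right (Submodule.subset_span ⟨k, rfl⟩))
    exact ⟨appS π _ z, (hπχ _ z).trans hz⟩
  · refine bijective_of_cover χ W (fun i => EtOver.pullbackObj (toT W) (a i))
      (fun i => EtOver.pullbackFst (toT W) (a i)) (fun w => ?_) fun i Y hY b =>
        @bijective_of_bc _ _ _ _ hL hH χ _ _ (hZ i) hY (b ≫ EtOver.pullbackSnd (toT W) (a i)) (hbij i)
    have hw : (toT W).hom.left.left w ∈ D := by
      change Points.ofPt EV.obj.hom _ ∈ O
      exact (ofPt_hom ((EtOver.postcomp g he).map (toT W)) w) ▸ hW w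
    obtain ⟨i, z, hz⟩ := hgc ⟨_, hw⟩
    obtain ⟨v, hv, -⟩ := Scheme.Pullback.exists_preimage_pullback w z (f := (toT W).hom.left.left)
      (g := (a i).hom.left.left) (congrArg Subtype.val hz).symm
    have sq : IsPullback (EtOver.pullbackFst (toT W) (a i)).hom.left.left
        (EtOver.pullbackSnd (toT W) (a i)).hom.left.left (toT W).hom.left.left (a i).hom.left.left :=
      (EtOver.isPullback _ _).map (EtOver.toScheme _)
    refine ⟨i, sq.isoPullback.inv v, ?_⟩
    rw [← Scheme.Hom.comp_apply, sq.isoPullback_inv_fst, hv]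

end SubExt
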