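import Groth.Agent.SubExtLib.QuotChart

/-!
# Gluing along the diagonal of a chart
-/

set_option autoImplicit false
set_option backward.isDefEq.respectTransparency false
set_option backward.isDefEq.respectTransparency.types false
universe u
open CategoryTheory CategoryTheory.Limits AlgebraicGeometry Opposite AlgSp TopologicalSpace
open ModEtQc

noncomputable section

namespace SubExt

variable {S : Scheme.{u}} {X : Sp S} {V : Over S} (g : (yon S).obj V ⟶ X) (he : IsEtaleMor g)
  (hf : Representable g)

/-- The chart as an object over the space. -/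
abbrev chartEV : EtOver X := (EtOver.postcomp g he).obj (T0 V)

/-- The diagonal of the chart. -/
def diagMap : T0 V ⟶ EtOver.bcObj hf (chartEV g he) := postcompEquiv he hf (T0 V) (chartEV g he) (𝟙 _)

theorem diagMap_snd : (diagMap g he hf).hom.left ≫ hf.snd (chartEV g he).obj.hom = 𝟙 _ :=
  hf.lift_snd _ _ _

theorem postcomp_diagMap : (EtOver.postcomp g he).map (diagMap g he hf) ≫ πT he hf (chartEV g he) = 𝟙 _ :=
  EtOver.hom_ext _ _ (diagMap_snd g he hf)

theorem exists_piece {O : Set (Points X)} (hinj : FiltLib.InjOver (chartEV g he).obj.hom Oᶜ)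
    (w : (EtOver.bcObj hf (chartEV g he)).obj.left.left)
    (hw : Points.ofPt ((EtOver.postcomp g he).obj (EtOver.bcObj hf (chartEV g he))).obj.hom w ∉ O) :
    ∃ (Y : EtOver ((yon S).obj V)) (q : Y ⟶ EtOver.bcObj hf (chartEV g he)),
      w ∈ Set.range q.hom.left.left ∧ q = toT Y ≫ diagMap g he hf ∧
        (EtOver.postcomp g he).map q ≫ πT he hf (chartEV g he) = (EtOver.postcomp g he).map (toT Y) := by
  let W := EtOver.bcObj hf (chartEV g he)
  obtain ⟨Y, q, hwq, hq⟩ := exists_mem_range_eq hinj (πT he hf (chartEV g he))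
    ((EtOver.postcomp g he).map (toT W)) w hw
  let Y' : EtOver ((yon S).obj V) := EtOver.mk ((yon S).map q.hom.left ≫ W.obj.hom)
    ((repWith_isMultiplicative (S := S) @Etale).comp_mem _ _
      ((repWith_yon_map_iff @Etale _).2 (EtOver.etale_left q)) W.property)
  let q' : Y' ⟶ W := EtOver.homMk q.hom.left rfl
  have e₁ : q.hom.left ≫ hf.snd (chartEV g he).obj.hom = (toT Y').hom.left := by
    rw [← eq_toT (q' ≫ toT W)]
    exact congrArg (fun p => p.hom.left) hq
  have hq' : q' = toT Y' ≫ diagMap g he hf := by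
    refine EtOver.hom_ext _ _ (hf.hom_ext ((EtOver.w q').trans (EtOver.w (toT Y' ≫ diagMap g he hf)).symm) ?_)
    change q.hom.left ≫ _ = ((toT Y').hom.left ≫ (diagMap g he hf).hom.left) ≫ _
    rw [Category.assoc, diagMap_snd, e₁]
    exact (Category.comp_id _).symm
  refine ⟨Y', q', hwq, hq', EtOver.hom_ext _ _ ?_⟩
  exact e₁

variable {O : Set (Points X)} (hO : IsOpen O) (hinj : FiltLib.InjOver (chartEV g he).obj.hom Oᶜ)
  {R : ModEt X} {L : ModEt ((yon S).obj V)} (χ : L ⟶ (resEt he).obj R)
  (hχ : ∀ W : EtOver ((yon S).obj V), Below O ((EtOver.postcomp g he).obj W) → Function.Bijective (appS χ W))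

include hO in
/-- The part over the open subspace. -/
theorem exists_open_part (W : EtOver ((yon S).obj V)) :
    ∃ (Y : EtOver ((yon S).obj V)) (q : Y ⟶ W), Below O ((EtOver.postcomp g he).obj Y) ∧
      ∀ w, Points.ofPt ((EtOver.postcomp g he).obj W).obj.hom w ∈ O → w ∈ Set.range q.hom.left.left := by
  let D : W.obj.left.left.Opens := ⟨Points.ofPt ((EtOver.postcomp g he).obj W).obj.hom ⁻¹' O,
    hO.preimage (Points.continuous_ofPt _)⟩
  refine ⟨openObj W D, openHom W D, fun z => ?_, fun w hw => ⟨⟨w, hw⟩, rfl⟩⟩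
  rw [ofPt_hom ((EtOver.postcomp g he).map (openHom W D)) z]
  exact z.2

include hO hinj hχ in
theorem diag_ext (b b' : sec L (EtOver.bcObj hf (chartEV g he)))
    (h₁ : appS χ (EtOver.bcObj hf (chartEV g he)) b = appS χ (EtOver.bcObj hf (chartEV g he)) b')
    (h₂ : res L (diagMap g he hf) b = res L (diagMap g he hf) b') : b = b' := by
  obtain ⟨Y₀, q₀, hb₀, hc₀⟩ := exists_open_part g he hO (EtOver.bcObj hf (chartEV g he))
  choose Y q hwq hq _hq' using fun p : {w : (EtOver.bcObj hf (chartEV g he)).obj.left.left //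
      Points.ofPt ((EtOver.postcomp g he).obj (EtOver.bcObj hf (chartEV g he))).obj.hom w ∉ O} =>
    exists_piece g he hf hinj p.1 p.2
  refine eq_of_cover L (fun p => Option.elim p Y₀ Y) (fun p => Option.rec q₀ q p) (fun w => ?_) b b' fun p => ?_
  · by_cases hw : Points.ofPt ((EtOver.postcomp g he).obj (EtOver.bcObj hf (chartEV g he))).obj.hom w ∈ O
    · exact ⟨none, hc₀ w hw⟩
    · exact ⟨some ⟨w, hw⟩, hwq _⟩
  · rcases p with _ | p
    · change res L q₀ b = res L q₀ b'
      exact (hχ Y₀ hb₀).1 (by rw [appS_res, appS_res, h₁])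
    · change res L (q p) b = res L (q p) b'
      rw [hq p, res_comp, res_comp, h₂]

/-- The element seen through the projection. -/
def pullπ (a : sec R (chartEV g he)) : sec ((resEt he).obj R) (EtOver.bcObj hf (chartEV g he)) :=
  res R (πT he hf (chartEV g he)) a

theorem res_pullπ {Y : EtOver ((yon S).obj V)} (q : Y ⟶ EtOver.bcObj hf (chartEV g he)) (a : sec R (chartEV g he)) :
    res ((resEt he).obj R) q (pullπ g he hf a) =
      res R ((EtOver.postcomp g he).map q ≫ πT he hf (chartEV g he)) a :=
  (res_comp R (πT he hf (chartEV g he)) ((EtOver.postcomp g he).map q) a).symm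

include hO hinj hχ in
theorem diag_exists (l : sec L (T0 V)) :
    ∃ b, appS χ (EtOver.bcObj hf (chartEV g he)) b = pullπ g he hf (appS χ (T0 V) l) ∧
      res L (diagMap g he hf) b = l := by
  classical
  let a : sec R (chartEV g he) := appS χ (T0 V) l
  let W := EtOver.bcObj hf (chartEV g he)
  obtain ⟨Y₀, q₀, hb₀, hc₀⟩ := exists_open_part g he hO W
  choose Y q hwq hq hq' using fun p : {w : W.obj.left.left //
      Points.ofPt ((EtOver.postcomp g he).obj W).obj.hom w ∉ O} => exists_piece g he hf hinj p.1 p.2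
  obtain ⟨t₀, ht₀⟩ := (hχ Y₀ hb₀).2 (res ((resEt he).obj R) q₀ (pullπ g he hf a))
  let Yo := fun p : Option {w : W.obj.left.left // Points.ofPt ((EtOver.postcomp g he).obj W).obj.hom w ∉ O} =>
    Option.elim p Y₀ Y
  let qo : ∀ p, Yo p ⟶ W := fun p => Option.rec q₀ q p
  let tv : ∀ p, sec L (Yo p) := fun p => Option.rec t₀ (fun p => res L (toT (Y p)) l) p
  have hto : ∀ p, appS χ (Yo p) (tv p) = res ((resEt he).obj R) (qo p) (pullπ g he hf a) := by
    rintro (_ | p)
    · exact ht₀
    · change appS χ (Y p) (res L (toT (Y p)) l) = res ((resEt he).obj R) (q p) (pullπ g he hf a)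
      rw [appS_res, res_pullπ, hq' p]
      rfl
  have hcov : ∀ w, ∃ p, w ∈ Set.range (qo p).hom.left.left := fun w => by
    by_cases hw : Points.ofPt ((EtOver.postcomp g he).obj W).obj.hom w ∈ O
    · exact ⟨none, hc₀ w hw⟩
    · exact ⟨some ⟨w, hw⟩, hwq _⟩
  obtain ⟨b, hb⟩ := exists_glue_sec L Yo qo hcov tv fun p p' => by
    rcases p with _ | p
    · refine (hχ _ (hb₀.comp ((EtOver.postcomp g he).map (EtOver.pullbackFst q₀ (qo p'))))).1 ?_
      rw [appS_res, appS_res, hto, hto, ← res_comp, ← res_comp, EtOver.pullback_condition]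
    · rcases p' with _ | p'
      · refine (hχ _ (hb₀.comp ((EtOver.postcomp g he).map (EtOver.pullbackSnd (q p) q₀)))).1 ?_
        rw [appS_res, appS_res, hto, hto, ← res_comp, ← res_comp, EtOver.pullback_condition]
      · change res L _ (res L (toT (Y p)) l) = res L _ (res L (toT (Y p')) l)
        rw [← res_comp, ← res_comp]
        exact res_congr L ((eq_toT _).trans (eq_toT _).symm) l
  refine ⟨b, eq_of_cover _ Yo qo hcov _ _ fun p => by rw [← appS_res, hb, hto], ?_⟩
  refine eq_of_cover L (fun p => EtOver.pullbackObj (diagMap g he hf) (qo p))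
    (fun p => EtOver.pullbackFst (diagMap g he hf) (qo p)) (fun z => ?_) _ _ fun p => ?_
  · obtain ⟨p, y, hy⟩ := hcov ((diagMap g he hf).hom.left.left z)
    obtain ⟨v, hv, -⟩ := Scheme.Pullback.exists_preimage_pullback z y (f := (diagMap g he hf).hom.left.left)
      (g := (qo p).hom.left.left) hy.symm
    have sq : IsPullback (EtOver.pullbackFst (diagMap g he hf) (qo p)).hom.left.left
        (EtOver.pullbackSnd (diagMap g he hf) (qo p)).hom.left.left (diagMap g he hf).hom.left.left
        (qo p).hom.left.left := (EtOver.isPullback _ _).map (EtOver.toScheme _)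
    exact ⟨p, sq.isoPullback.inv v, by rw [← Scheme.Hom.comp_apply, sq.isoPullback_inv_fst, hv]⟩
  · rw [← res_comp, EtOver.pullback_condition, res_comp, hb]
    rcases p with _ | p
    · refine (hχ _ (hb₀.comp ((EtOver.postcomp g he).map (EtOver.pullbackSnd _ q₀)))).1 ?_
      rw [appS_res, appS_res, hto, ← res_comp]
      change res _ (EtOver.pullbackSnd (diagMap g he hf) q₀ ≫ q₀) (pullπ g he hf a) = _
      rw [← EtOver.pullback_condition, res_pullπ, Functor.map_comp, Category.assoc, postcomp_diagMap,
        Category.comp_id]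
      rfl
    · change res L _ (res L (toT (Y p)) l) = _
      rw [← res_comp]
      exact res_congr L ((eq_toT _).trans (eq_toT _).symm) l

end SubExt
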