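import Groth.Agent.SubExtLib.QuotBiprod
import Groth.Agent.SubExtLib.QuotColim

/-!
# A quasi-coherent module as a filtered colimit of finitely presented modules
-/

set_option autoImplicit false
set_option backward.isDefEq.respectTransparency false
set_option backward.isDefEq.respectTransparency.types false
universe u
open CategoryTheory CategoryTheory.Limits AlgebraicGeometry Opposite AlgSp TopologicalSpace
open ModEtQc

noncomputable section

namespace SubExt

variable {S : Scheme.{u}} {X : Sp S}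

theorem kills_aux {K P C : ModEt X} (k : K ⟶ P) (g : P ⟶ C) (hk : k ≫ g = 0) {E : EtOver X} {x y : sec P E}
    (h : ∃ z, appS k E z = x - y) : appS g E x = appS g E y := by
  obtain ⟨z, hz⟩ := h
  rw [← sub_eq_zero, ← map_sub, ← hz, ← appS_comp', hk]
  rfl

theorem exists_kernel_preimage {P M : ModEt X} (ψ : P ⟶ M) {E : EtOver X} (d : sec P E) (h : appS ψ E d = 0) :
    ∃ z, appS (kernel.ι ψ) E z = d :=
  (exact_appS (T := ShortComplex.mk (kernel.ι ψ) ψ (kernel.condition ψ))
    (ShortComplex.exact_of_f_is_kernel _ (kernelIsKernel _)) E d).1 h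

theorem kills_iff_sections {P M C : ModEt X} (ψ : P ⟶ M) (g : P ⟶ C) (hk : kernel.ι ψ ≫ g = 0) {E : EtOver X}
    (x y : sec P E) (h : appS ψ E x = appS ψ E y) : appS g E x = appS g E y :=
  kills_aux (kernel.ι ψ) g hk (exists_kernel_preimage ψ (x - y) (by rw [map_sub, h, sub_self]))

theorem eq_of_affine {A B : ModEt X} (f g : A ⟶ B)
    (h : ∀ E : EtOver X, IsAffine E.obj.left.left → ∀ x, appS f E x = appS g E x) : f = g := by
  rw [← sub_eq_zero, ← Category.id_comp (f - g)]
  refine comp_eq_zero_of_affine _ _ fun E hE x => ?_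
  change appS (f - g) E x = 0
  rw [sub_eq_add_neg, appS_add', appS_neg', h E hE x, add_neg_cancel]

instance : HasFiniteBiproducts (ModEt X) := Abelian.hasFiniteBiproducts

section Generators

variable {I : Type (u + 1)} (P : I → ModEt X)

/-- The elements of a finite set of indices. -/
abbrev el (s : Finset I) (i : Fin s.card) : I := (s.equivFin.symm i).1

/-- A finite sum. -/
abbrev bsum (s : Finset I) : ModEt X := ⨁ fun i : Fin s.card => P (el s i)

theorem el_equiv (s : Finset I) {a : I} (ha : a ∈ s) : el s (s.equivFin ⟨a, ha⟩) = a :=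
  congrArg Subtype.val (s.equivFin.symm_apply_apply ⟨a, ha⟩)

/-- An inclusion in a finite sum. -/
def bι (s : Finset I) (a : I) (ha : a ∈ s) : P a ⟶ bsum P s :=
  eqToHom (congrArg P (el_equiv s ha).symm) ≫ biproduct.ι (fun i : Fin s.card => P (el s i)) (s.equivFin ⟨a, ha⟩)

theorem eqToHom_ι {n : ℕ} (e : Fin n → I) {k k' : Fin n} (h : k = k') (hh : P (e k') = P (e k)) :
    eqToHom hh ≫ biproduct.ι (fun i => P (e i)) k = biproduct.ι (fun i => P (e i)) k' := by
  subst h
  exact Category.id_comp _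

theorem bι_el (s : Finset I) (i : Fin s.card) (h : el s i ∈ s) :
    bι P s (el s i) h = biproduct.ι (fun i : Fin s.card => P (el s i)) i :=
  eqToHom_ι P (el s) (show s.equivFin ⟨el s i, h⟩ = i from s.equivFin.apply_symm_apply i) _

theorem bsum_ext {s : Finset I} {C : ModEt X} (f g : bsum P s ⟶ C)
    (h : ∀ a (ha : a ∈ s), bι P s a ha ≫ f = bι P s a ha ≫ g) : f = g :=
  biproduct.hom_ext' _ _ fun i => by
    rw [← bι_el P s i (s.equivFin.symm i).2]
    exact h _ _

theorem eqToHom_desc {n : ℕ} (e : Fin n → I) {C : ModEt X} (f : ∀ a, P a ⟶ C) (k : Fin n) {a : I}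
    (h : e k = a) :
    (eqToHom (congrArg P h.symm) ≫ biproduct.ι (fun i => P (e i)) k) ≫ biproduct.desc (fun i => f (e i)) = f a := by
  subst h
  rw [eqToHom_refl, Category.id_comp, biproduct.ι_desc]

variable {M : ModEt X} (p : ∀ a, P a ⟶ M)

/-- The map of a finite sum. -/
def bψ (s : Finset I) : bsum P s ⟶ M := biproduct.desc fun i => p (el s i)

theorem bι_bψ (s : Finset I) {a : I} (ha : a ∈ s) : bι P s a ha ≫ bψ P p s = p a :=
  eqToHom_desc P (el s) p _ (el_equiv s ha)

/-- The inclusion of finite sums. -/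
def binc {s t : Finset I} (h : s ⊆ t) : bsum P s ⟶ bsum P t :=
  biproduct.desc fun i => bι P t (el s i) (h (s.equivFin.symm i).2)

theorem bι_eqToHom {t : Finset I} {a b : I} (h : a = b) (ha : a ∈ t) (hb : b ∈ t) :
    eqToHom (congrArg P h) ≫ bι P t b hb = bι P t a ha := by
  subst h
  exact Category.id_comp _

theorem bι_binc {s t : Finset I} (h : s ⊆ t) {a : I} (ha : a ∈ s) :
    bι P s a ha ≫ binc P h = bι P t a (h ha) := by
  rw [bι, binc, Category.assoc, biproduct.ι_desc]
  exact bι_eqToHom P (el_equiv s ha).symm (h ha) (h (s.equivFin.symm _).2)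

theorem binc_refl (s : Finset I) : binc P (subset_refl s) = 𝟙 (bsum P s) :=
  bsum_ext P _ _ fun a ha => by rw [bι_binc, Category.comp_id]

theorem binc_comp {s t r : Finset I} (h : s ⊆ t) (h' : t ⊆ r) :
    binc P h ≫ binc P h' = binc P (h.trans h') :=
  bsum_ext P _ _ fun a ha => by rw [← Category.assoc, bι_binc, bι_binc, bι_binc]

theorem binc_bψ {s t : Finset I} (h : s ⊆ t) : binc P h ≫ bψ P p t = bψ P p s :=
  bsum_ext P _ _ fun a ha => by rw [← Category.assoc, bι_binc, bι_bψ, bι_bψ]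

end Generators

section System

variable {I : Type (u + 1)} {P : I → ModEt X} {M : ModEt X} {p : ∀ a, P a ⟶ M}
  (G : ∀ s : Finset I, Idx (kernel (bψ P p s)) → ModEt X)
  (jG : ∀ s a, G s a ⟶ kernel (bψ P p s))

/-- The nodes of the system. -/
abbrev Node (P : I → ModEt X) (p : ∀ a, P a ⟶ M) : Type (u + 1) :=
  Σ s : Finset I, Idx (kernel (bψ P p s))

/-- The relation of a node. -/
def rel (x : Node P p) : G x.1 x.2 ⟶ bsum P x.1 := jG x.1 x.2 ≫ kernel.ι (bψ P p x.1)

theorem rel_bψ (x : Node P p) : rel G jG x ≫ bψ P p x.1 = 0 := by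
  rw [rel, Category.assoc, kernel.condition, comp_zero]

theorem rel_binc_bψ (x : Node P p) {t : Finset I} (h : x.1 ⊆ t) : (rel G jG x ≫ binc P h) ≫ bψ P p t = 0 := by
  rw [Category.assoc, binc_bψ, rel_bψ]

/-- The order of the system. -/
def NodeLE (x y : Node P p) : Prop :=
  ∃ h : x.1 ⊆ y.1, (rel G jG x ≫ binc P h) ≫ cokernel.π (rel G jG y) = 0

theorem nodeLE_refl (x : Node P p) : NodeLE G jG x x :=
  ⟨subset_refl _, by rw [binc_refl, Category.comp_id, cokernel.condition]⟩

theorem nodeLE_trans {x y z : Node P p} (h : NodeLE G jG x y) (h' : NodeLE G jG y z) : NodeLE G jG x z := by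
  obtain ⟨h₁, e₁⟩ := h
  obtain ⟨h₂, e₂⟩ := h'
  rw [Category.assoc] at e₁ e₂
  refine ⟨h₁.trans h₂, ?_⟩
  have e : binc P h₂ ≫ cokernel.π (rel G jG z) =
      cokernel.π (rel G jG y) ≫ cokernel.desc (rel G jG y) (binc P h₂ ≫ cokernel.π (rel G jG z)) e₂ :=
    (cokernel.π_desc _ _ _).symm
  rw [← binc_comp P h₁ h₂, Category.assoc, Category.assoc, e, reassoc_of% e₁, zero_comp]

end System

section Colim

variable {I : Type (u + 1)} {P : I → ModEt X} {M : ModEt X} {p : ∀ a, P a ⟶ M}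

theorem exists_step_node [QuasiSeparatedSpace ↥S]
    (G : ∀ s : Finset I, Idx (kernel (bψ P p s)) → ModEt X)
    (jG : ∀ s a, G s a ⟶ kernel (bψ P p s)) (hj : ∀ s a, Mono (jG s a))
    (hG : ∀ s a, BC (G s a)) (hft : ∀ s a, (G s a).IsFiniteType)
    (hr : ∀ s (a : Idx (kernel (bψ P p s))) (E : EtOver X) (hE : IsAffine E.obj.left.left),
      Set.range (appS (jG s a) E) = (a.1 ⟨E, hE⟩ : Set (sec (kernel (bψ P p s)) E)))
    (x : Node P p) {t : Finset I} (h : x.1 ⊆ t) :
    ∃ Q : Sub (kernel (bψ P p t)) Set.univ, ∀ a : Idx (kernel (bψ P p t)),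
      (∀ E : {E : EtOver X // IsAffine E.obj.left.left}, Q.P E.1 ≤ a.1 E) → NodeLE G jG x ⟨t, a⟩ := by
  let l := kernel.lift (bψ P p t) (rel G jG x ≫ binc P h) (rel_binc_bψ G jG x h)
  haveI := hft x.1 x.2
  refine ⟨Sub.ofHom l (hG x.1 x.2), fun a ha => ⟨h, ?_⟩⟩
  haveI := hj t a
  obtain ⟨m, hm⟩ := exists_lift_of_range_le (jG t a) l fun E hE => by
    rw [hr t a E hE]
    exact fun y hy => ha ⟨E, hE⟩ hy
  change (rel G jG x ≫ binc P h) ≫ cokernel.π (rel G jG ⟨t, a⟩) = 0
  rw [← kernel.lift_ι (bψ P p t) (rel G jG x ≫ binc P h) (rel_binc_bψ G jG x h)]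
  change (l ≫ kernel.ι _) ≫ _ = 0
  rw [← hm, Category.assoc m, show jG t a ≫ kernel.ι (bψ P p t) = rel G jG ⟨t, a⟩ from rfl, Category.assoc,
    cokernel.condition, comp_zero]

/-- The cocone datum of the system. -/
theorem node_desc_zero (G : ∀ s : Finset I, Idx (kernel (bψ P p s)) → ModEt X)
    (jG : ∀ s a, G s a ⟶ kernel (bψ P p s)) (hj : ∀ s a, Mono (jG s a))
    (hr : ∀ s (a : Idx (kernel (bψ P p s))) (E : EtOver X) (hE : IsAffine E.obj.left.left),
      Set.range (appS (jG s a) E) = (a.1 ⟨E, hE⟩ : Set (sec (kernel (bψ P p s)) E)))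
    (s : Finset I) (y : Node P p) (h : s ⊆ y.1) :
    NodeLE G jG ⟨s, ⟨_, Sub.zero (kernel (bψ P p s)) Set.univ, rfl⟩⟩ y := by
  refine ⟨h, ?_⟩
  let z : Idx (kernel (bψ P p s)) := ⟨_, Sub.zero (kernel (bψ P p s)) Set.univ, rfl⟩
  have hz : jG s z = 0 := eq_of_affine _ _ fun E hE x => by
    have hm : appS (jG s z) E x ∈ (z.1 ⟨E, hE⟩ : Submodule (Ring E) (sec (kernel (bψ P p s)) E)) :=
      (hr s z E hE).le ⟨x, rfl⟩
    exact (Submodule.mem_bot _).1 hm
  change ((jG s z ≫ kernel.ι (bψ P p s)) ≫ binc P h) ≫ cokernel.π (rel G jG y) = 0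
  rw [hz, zero_comp, zero_comp, zero_comp]

end Colim

end SubExt
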