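import Groth.Agent.SubExtLib.QuotFiltered

/-!
# The filtered system of finitely presented modules
-/

set_option autoImplicit false
set_option backward.isDefEq.respectTransparency false
set_option backward.isDefEq.respectTransparency.types false
universe u
open CategoryTheory CategoryTheory.Limits AlgebraicGeometry Opposite AlgSp TopologicalSpace
open ModEtQc

noncomputable section

namespace SubExt

variable {S : Scheme.{u}} {X : Sp S}

/-- A choice of presented submodules of finite type. -/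
structure Pres (M : ModEt X) where
  /-- the submodules -/
  F : Idx M → ModEt X
  /-- the inclusions -/
  j : ∀ a, F a ⟶ M
  /-- the presenting modules -/
  P : Idx M → ModEt X
  /-- the presentations -/
  q : ∀ a, P a ⟶ F a
  mono : ∀ a, Mono (j a)
  bc : ∀ a, BC (P a)
  fp : ∀ a, (P a).IsFinitePresentation
  surj : ∀ a (E : EtOver X), IsAffine E.obj.left.left → Function.Surjective (appS (q a) E)
  range : ∀ (a : Idx M) (E : EtOver X) (hE : IsAffine E.obj.left.left),
    Set.range (appS (j a) E) = (a.1 ⟨E, hE⟩ : Set (sec M E))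

namespace Pres

variable {M : ModEt X} (π : Pres M)

/-- The maps to the module. -/
abbrev p (a : Idx M) : π.P a ⟶ M := π.q a ≫ π.j a

theorem kill_of_key {K P F M C : ModEt X} (k : K ⟶ P) (q : P ⟶ F) (hk : k ≫ q = 0) (j : F ⟶ M) (g : P ⟶ C)
    {E : EtOver X} (key : ∀ x y : sec P E, appS (q ≫ j) E x = appS (q ≫ j) E y → appS g E x = appS g E y)
    (z : sec K E) : appS g E (appS k E z) = 0 := by
  refine (key _ 0 ?_).trans (map_zero _)
  rw [map_zero, appS_comp', ← appS_comp' k q, hk]
  exact map_zero (appS j E)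

theorem key_aux {C : ModEt X} {t : Finset (Idx M)} (g : bsum π.P t ⟶ C)
    (hk : kernel.ι (bψ π.P π.p t) ≫ g = 0) {a b : Idx M} (ha : a ∈ t) (hb : b ∈ t) {E : EtOver X}
    {x : sec (π.P a) E} {y : sec (π.P b) E} (h : appS (π.p a) E x = appS (π.p b) E y) :
    appS (bι π.P t a ha ≫ g) E x = appS (bι π.P t b hb ≫ g) E y := by
  rw [appS_comp', appS_comp']
  refine kills_iff_sections (bψ π.P π.p t) g hk _ _ ?_
  rw [← appS_comp', ← appS_comp', bι_bψ, bι_bψ]
  exact h

theorem exists_desc {C : ModEt X} (ga : ∀ a, π.P a ⟶ C) (gp : ∀ a b, ∃ (t : Finset (Idx M)) (ha : a ∈ t) (hb : b ∈ t)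
      (h : bsum π.P t ⟶ C), bι π.P t a ha ≫ h = ga a ∧ bι π.P t b hb ≫ h = ga b ∧
        kernel.ι (bψ π.P π.p t) ≫ h = 0) :
    ∃ d : ∀ a, π.F a ⟶ C, (∀ a, π.q a ≫ d a = ga a) ∧
      ∀ a b (u : π.F a ⟶ π.F b), u ≫ π.j b = π.j a → u ≫ d b = d a := by
  have key : ∀ a b (E : EtOver X) (x : sec (π.P a) E) (y : sec (π.P b) E),
      appS (π.p a) E x = appS (π.p b) E y → appS (ga a) E x = appS (ga b) E y := fun a b E x y h => by
    obtain ⟨t, ha, hb, g, hga, hgb, hk⟩ := gp a b
    rw [← hga, ← hgb]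
    exact key_aux π g hk ha hb h
  have hepi : ∀ a, Epi (π.q a) := fun a => epi_of_surjective _ (π.surj a)
  have hd : ∀ a, kernel.ι (π.q a) ≫ ga a = 0 := fun a => comp_eq_zero_of_affine _ _ fun E hE x => by
    exact kill_of_key _ (π.q a) (kernel.condition _) (π.j a) (ga a) (fun x y h => key a a E x y h) x
  refine ⟨fun a => haveI := hepi a; Abelian.epiDesc (π.q a) (ga a) (hd a),
    fun a => haveI := hepi a; Abelian.comp_epiDesc _ _ _, fun a b u hu => ?_⟩
  haveI := hepi a
  haveI := hepi b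
  refine (cancel_epi (π.q a)).1 ?_
  rw [Abelian.comp_epiDesc]
  refine eq_of_affine _ _ fun E hE x => ?_
  obtain ⟨y, hy⟩ := π.surj b E hE (appS u E (appS (π.q a) E x))
  rw [appS_comp', appS_comp', ← hy, ← appS_comp', Abelian.comp_epiDesc]
  refine (key a b E x y ?_).symm
  change appS (π.j a) E (appS (π.q a) E x) = appS (π.j b) E (appS (π.q b) E y)
  rw [hy]
  exact (congrArg (fun φ => appS φ E (appS (π.q a) E x)) hu).symm

theorem exists_hom_of_family [QuasiSeparatedSpace ↥S] (hX : IsAlgSpace X) (hqc : IsQuasiCompactSp X)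
    (hqs : IsQuasiSeparatedSp X) (hM : BC M) {C : ModEt X} (d : ∀ a, π.F a ⟶ C)
    (hd : ∀ a b (u : π.F a ⟶ π.F b), u ≫ π.j b = π.j a → u ≫ d b = d a) :
    ∃! D : M ⟶ C, ∀ a, π.j a ≫ D = d a := by
  classical
  haveI := π.mono
  let Pr : ObjectProperty (Subobject M) :=
    fun N => (Subobject.underlying.obj N).IsQuasicoherent ∧ (Subobject.underlying.obj N).IsFiniteType
  let ι : Pr.ι ⋙ Subobject.underlying ⟶ (Functor.const Pr.FullSubcategory).obj M :=
    { app := fun N => N.obj.arrow
      naturality := fun N N' h => (Subobject.underlying_arrow _).trans (Category.comp_id _).symm }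
  obtain ⟨-, ⟨hc⟩⟩ := isColimit_finiteType hX hqc hqs M hM Pr rfl ι fun _ => rfl
  have hN : ∀ N : Pr.FullSubcategory, ∃ (a : Idx M) (l : (N.obj : ModEt X) ⟶ π.F a),
      l ≫ π.j a = N.obj.arrow ∧
        ∀ E : {E : EtOver X // IsAffine E.obj.left.left}, a.1 E = LinearMap.range (appS N.obj.arrow E.1) := fun N => by
    haveI : (N.obj : ModEt X).IsQuasicoherent := N.property.1
    haveI : (N.obj : ModEt X).IsFiniteType := N.property.2
    refine ⟨⟨_, Sub.ofHom N.obj.arrow (bc_of_isQuasicoherent _), rfl⟩, ?_⟩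
    obtain ⟨l, hl⟩ := exists_lift_of_range_le (π.j ⟨_, Sub.ofHom N.obj.arrow (bc_of_isQuasicoherent _), rfl⟩)
      N.obj.arrow fun E hE => by
        rw [π.range _ E hE]
        exact fun y hy => hy
    exact ⟨l, hl, fun E => rfl⟩
  choose a l hl ha using hN
  let s : Cocone (Pr.ι ⋙ Subobject.underlying) := Cocone.mk C
    { app := fun N => l N ≫ d (a N)
      naturality := fun N N' h => by
        have hw : Subobject.underlying.map (Pr.ι.map h) ≫ N'.obj.arrow = N.obj.arrow :=
          Subobject.underlying_arrow _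
        obtain ⟨u, hu⟩ := exists_lift_of_range_le (π.j (a N')) (π.j (a N)) fun E hE => by
          rw [π.range _ E hE, π.range _ E hE, ha N ⟨E, hE⟩, ha N' ⟨E, hE⟩]
          rintro _ ⟨x, rfl⟩
          exact ⟨appS (Subobject.underlying.map (Pr.ι.map h)) E x, congrArg (fun φ => appS φ E x) hw⟩
        change Subobject.underlying.map (Pr.ι.map h) ≫ l N' ≫ d (a N') = (l N ≫ d (a N)) ≫ 𝟙 C
        rw [Category.comp_id, ← hd (a N) (a N') u hu, ← Category.assoc, ← Category.assoc]
        refine congrArg (· ≫ d (a N')) ((cancel_mono (π.j (a N'))).1 ?_)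
        rw [Category.assoc, hl N', hw, Category.assoc, hu, hl N] }
  have hfac : ∀ N : Pr.FullSubcategory, N.obj.arrow ≫ hc.desc s = l N ≫ d (a N) := fun N => hc.fac s N
  refine ⟨hc.desc s, fun b => ?_, fun D hD => hc.hom_ext fun N => ?_⟩
  · haveI : (π.P b).IsFinitePresentation := π.fp b
    obtain ⟨Q, hQ⟩ : ∃ Q : Sub M Set.univ, ∀ (E : EtOver X) (hE : IsAffine E.obj.left.left),
        Q.P E = b.1 ⟨E, hE⟩ := ⟨b.2.choose, fun E hE => congrFun b.2.choose_spec ⟨E, hE⟩⟩
    obtain ⟨F, i, hi, hq, hr⟩ := Q.exists_module hM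
    haveI := hi
    haveI : (Subobject.mk i : ModEt X).IsQuasicoherent :=
      (SheafOfModules.isQuasicoherent (OEtRing X)).prop_of_iso (Subobject.underlyingIso i).symm hq
    have hr' : ∀ (E : EtOver X), IsAffine E.obj.left.left →
        Set.range (appS (Subobject.mk i).arrow E) = (Q.P E : Set (sec M E)) := fun E hE => by
      rw [← hr E hE]
      ext t
      constructor
      · rintro ⟨y, rfl⟩
        exact ⟨appS (Subobject.underlyingIso i).hom E y,
          congrArg (fun φ => appS φ E y) (Subobject.underlyingIso_hom_comp_eq_mk i)⟩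
      · rintro ⟨y, rfl⟩
        exact ⟨appS (Subobject.underlyingIso i).inv E y,
          congrArg (fun φ => appS φ E y) (Subobject.underlyingIso_arrow i)⟩
    let N : Pr.FullSubcategory := ⟨Subobject.mk i, ⟨‹_›, Q.isFiniteType (Subobject.mk i).arrow hr'⟩⟩
    obtain ⟨v, hv⟩ := exists_lift_of_range_le N.obj.arrow (π.j b) fun E hE => by
      rw [π.range b E hE, ← hQ E hE]
      exact (hr' E hE).ge
    rw [← hv, Category.assoc, hfac N, ← Category.assoc]
    exact hd b (a N) (v ≫ l N) (by rw [Category.assoc, hl N, hv])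
  · change N.obj.arrow ≫ D = N.obj.arrow ≫ hc.desc s
    rw [hfac N, ← hD (a N), ← Category.assoc, hl N]

end Pres

theorem exists_pres [QuasiSeparatedSpace ↥S] (hX : IsAlgSpace X) (hqc : IsQuasiCompactSp X)
    (hqs : IsQuasiSeparatedSp X) (M : ModEt X) (hM : BC M) : Nonempty (Pres M) := by
  obtain ⟨F, j, hj, hF, hft, hr⟩ := exists_idx_family M hM
  have h : ∀ a : Idx M, ∃ (P : ModEt X) (q : P ⟶ F a), BC P ∧ P.IsFinitePresentation ∧
      ∀ E : EtOver X, IsAffine E.obj.left.left → Function.Surjective (appS q E) := fun a => by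
    haveI := hft a
    exact exists_fp_surjection hX hqc hqs (F a) (hF a)
  choose P q hP hfp hq using h
  exact ⟨⟨F, j, P, q, hj, hP, hfp, hq, hr⟩⟩

end SubExt
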