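import Groth.Agent.SubExtLib.QuotMain

/-!
# A finite type quasi-coherent module is a quotient of a finitely presented one
-/

set_option autoImplicit false
set_option backward.isDefEq.respectTransparency false
set_option backward.isDefEq.respectTransparency.types false
universe u
open CategoryTheory CategoryTheory.Limits AlgebraicGeometry Opposite AlgSp TopologicalSpace
open ModEtQc

noncomputable section

namespace SubExt

variable {S : Scheme.{u}} {X : Sp S}

theorem good_union {P M : ModEt X} (hP : BC P) (hM : BC M) (φ : P ⟶ M) {O : Set (Points X)} (hO : IsOpen O)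
    (EV : EtOver X) [IsAffine EV.obj.left.left] (hφ : Good φ O)
    (hEV : Module.FinitePresentation (Ring EV) (sec P EV) ∧ Function.Surjective (appS φ EV)) :
    Good φ (O ∪ Set.range (Points.ofPt EV.obj.hom)) := by
  intro E hE hEb
  haveI := hE
  choose Y' q hq hq' using fun w : E.obj.left.left =>
    show ∃ (Y : EtOver X) (q : Y ⟶ E), w ∈ Set.range q.hom.left.left ∧ (Below O Y ∨ Nonempty (Y ⟶ EV)) from by
      rcases hEb w with hw | ⟨v, hv⟩
      · let W : E.obj.left.left.Opens := ⟨Points.ofPt E.obj.hom ⁻¹' O, hO.preimage (Points.continuous_ofPt _)⟩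
        exact ⟨openObj E W, openHom E W, ⟨⟨w, hw⟩, rfl⟩, Or.inl fun x => by
          rw [ofPt_hom (openHom E W) x]
          exact x.2⟩
      · have sq : IsPullback ((yon S).map (EtOver.prodFst E EV).hom.left) ((yon S).map (EtOver.prodSnd E EV).hom.left)
            E.obj.hom EV.obj.hom := by
          change IsPullback ((yon S).map (EV.property.1.snd E.obj.hom)) ((yon S).map (EV.property.1.fst' E.obj.hom)) _ _
          rw [Functor.relativelyRepresentable.map_fst']
          exact (EV.property.1.isPullback E.obj.hom).flip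
        obtain ⟨z, hz, -⟩ := (AlgSpLib.ofPt_eq_ofPt_iff sq w v).1 hv.symm
        exact ⟨_, EtOver.prodFst E EV, ⟨z, hz⟩, Or.inr ⟨EtOver.prodSnd E EV⟩⟩
  obtain ⟨m, T, k, hT, hkc, hk⟩ := exists_refine Y' q (𝟙 E) fun w => ⟨w, hq w⟩
  have hloc : ∀ i, Module.FinitePresentation (Ring (T i)) (sec P (T i)) ∧ Function.Surjective (appS φ (T i)) :=
    fun i => by
      obtain ⟨w, c, -⟩ := hk i
      haveI := hT i
      rcases hq' w with hb | ⟨⟨b⟩⟩
      · exact hφ _ (hT i) (hb.comp c)
      · exact ⟨fp_of_bc hP (c ≫ b) hEV.1, surjective_of_bc hP hM φ (c ≫ b) hEV.2⟩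
  exact ⟨fp_of_cover hP T k hT hkc fun i => (hloc i).1, surjective_of_cover hP hM φ T k hT hkc fun i => (hloc i).2⟩

section Chart

variable {V : Over S} (g : (yon S).obj V ⟶ X) (he : IsEtaleMor g)

theorem toRes_surjective {G : ModEt X} : Function.Surjective (toRes (G := G) g he) := fun y => ⟨y, rfl⟩

theorem toRes_injective {G : ModEt X} : Function.Injective (toRes (G := G) g he) := fun _ _ h => h

theorem fp_of_toRes (G : ModEt X) (h : Module.FinitePresentation (Ring (T0 V)) (sec ((resEt he).obj G) (T0 V))) :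
    Module.FinitePresentation (Ring (chartEV g he)) (sec G (chartEV g he)) := h

theorem exists_chart_step [QuasiSeparatedSpace ↥S] (hX : IsAlgSpace X) (hqs : IsQuasiSeparatedSp X)
    [IsAffine V.left] (hf : Representable g) {R M : ModEt X} (hR : BC R) (hM : BC M) (ψ : R ⟶ M)
    {O : Set (Points X)} (hO : IsOpen O) (hc : IsCompact O) (hψ : Good ψ O)
    (hinj : FiltLib.InjOver (chartEV g he).obj.hom Oᶜ) {r : ℕ} (n : Fin r → sec M (chartEV g he))
    (hn : Submodule.span (Ring (chartEV g he)) (Set.range n) = ⊤) (hlift : ∀ k, ∃ x, appS ψ (chartEV g he) x = n k) :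
    ∃ (P : ModEt X) (φ : P ⟶ M), BC P ∧ Good φ (O ∪ Set.range (Points.ofPt (chartEV g he).obj.hom)) := by
  choose a ha using hlift
  haveI : IsAffine (chartEV g he).obj.left.left := ‹IsAffine V.left›
  obtain ⟨L, χ, hL, hLfp, hlift', hχ⟩ := exists_chart_module g he hX hqs hR hO hc
    (fun E hE hb => (hψ E hE hb).1) (fun k => toRes g he (a k))
  let u₁ := (resEtAdj he hf).unit.app R
  let u₂ := (pushModEt hf).map χ
  have hb : ∀ E : EtOver X, IsAffine E.obj.left.left →
      CompactSpace ↥(EtOver.bcObj hf E).obj.left.left ∧ QuasiSeparatedSpace ↥(EtOver.bcObj hf E).obj.left.left :=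
    fun E hE => by
      haveI := hE
      exact AlgSpAff.qcqs_bcObj_affine hX hqs hf E
  have hP : BC (fib u₁ u₂) := bc_fib u₁ u₂ hR (bc_push hf L hL hb) (bc_push hf _ (bc_resEt he R hR) hb)
  obtain ⟨hκ, hκ₁⟩ := bijective_kappa g he hf χ hO hinj hχ
  refine ⟨fib u₁ u₂, fib₁ u₁ u₂ ≫ ψ, hP, good_union hP hM _ hO _ (fun E hE hEb => ?_) ⟨?_, ?_⟩⟩
  · have h₁ := bijective_fib₁ u₁ u₂ E (bijective_push_map hf χ E (hχ _ (hEb.comp (πT he hf E))))
    haveI := (hψ E hE hEb).1
    refine ⟨Module.FinitePresentation.of_equiv (M := sec R E) (LinearEquiv.ofBijective _ h₁).symm, fun y => ?_⟩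
    obtain ⟨x, hx⟩ := (hψ E hE hEb).2 y
    obtain ⟨z, hz⟩ := h₁.2 x
    exact ⟨z, (congrArg (appS ψ E) hz).trans hx⟩
  · refine fp_of_toRes g he _ ?_
    haveI := hLfp
    refine Module.FinitePresentation.of_equiv
      (LinearEquiv.ofBijective (appS (kappa g he hf (fib₂ u₁ u₂)) (T0 V)) ⟨fun y y' e => ?_, fun l => ?_⟩).symm
    · obtain ⟨z, rfl⟩ := toRes_surjective g he y
      obtain ⟨z', rfl⟩ := toRes_surjective g he y'
      exact congrArg (toRes g he) (hκ.1 e)
    · obtain ⟨z, hz⟩ := hκ.2 l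
      exact ⟨toRes g he z, hz⟩
  · intro y
    have hy : y ∈ Submodule.span (Ring (chartEV g he)) (Set.range n) := hn ▸ Submodule.mem_top
    suffices hle : Submodule.span (Ring (chartEV g he)) (Set.range n) ≤
        LinearMap.range (appS (fib₁ u₁ u₂ ≫ ψ) (chartEV g he)) from LinearMap.mem_range.1 (hle hy)
    rw [Submodule.span_le]
    rintro _ ⟨k, rfl⟩
    obtain ⟨l, hl⟩ := hlift' k
    obtain ⟨z, hz⟩ := hκ.2 l
    refine ⟨z, ?_⟩
    have hz₁ : appS (fib₁ u₁ u₂) (chartEV g he) z = a k :=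
      toRes_injective g he ((hκ₁ z).trans ((congrArg (appS χ (T0 V)) hz).trans hl))
    exact (congrArg (appS ψ (chartEV g he)) hz₁).trans (ha k)

end Chart

/-- A finite type quasi-coherent module is a quotient of a finitely presented one. -/
theorem exists_fp_surjection [QuasiSeparatedSpace ↥S] (hX : IsAlgSpace X) (hqc : IsQuasiCompactSp X)
    (hqs : IsQuasiSeparatedSp X) (M : ModEt X) (hM : BC M) [M.IsFiniteType] :
    ∃ (P : ModEt X) (φ : P ⟶ M), BC P ∧ P.IsFinitePresentation ∧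
      ∀ E : EtOver X, IsAffine E.obj.left.left → Function.Surjective (appS φ E) := by
  suffices h : ∃ (P : ModEt X) (φ : P ⟶ M), BC P ∧ Good φ Set.univ by
    obtain ⟨P, φ, hP, hφ⟩ := h
    exact ⟨P, φ, hP, isFinitePresentation_of_cover P hP _ (fun E => E.2) coversTop_affine
      fun E => (hφ E.1 E.2 (below_univ _)).1, fun E hE => (hφ E hE (below_univ E)).2⟩
  refine FiltLib.open_induction hX hqc hqs (fun O => ∃ (P : ModEt X) (φ : P ⟶ M), BC P ∧ Good φ O) ∅
    isOpen_empty isCompact_empty ⟨_, kernel.ι (𝟙 M) ≫ 𝟙 M, bc_kernel (𝟙 M) hM hM, fun E hE hb => ?_⟩ ?_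
  · haveI : Subsingleton (sec (kernel (𝟙 M)) E) := ⟨fun s t => sub_eq_zero.1
      ((Submodule.mem_bot _).1 (mem_of_below_empty _ hb ⊥ (s - t)))⟩
    haveI : Finite (sec (kernel (𝟙 M)) E) := Finite.of_subsingleton
    refine ⟨Module.FinitePresentation.of_equiv (LinearEquiv.ofSubsingleton (Fin 0 → Ring E) _), fun y => ⟨0, ?_⟩⟩
    rw [map_zero]
    exact ((Submodule.mem_bot _).1 (mem_of_below_empty M hb ⊥ y)).symm
  rintro O₁ V g hO₁ hc₁ - hV hg hgi ⟨P, φ, hP, hφ⟩
  haveI := hV
  have he : IsEtaleMor g := AlgSpLib.isEtaleMor_of_repWith hg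
  have hf : Representable g := hg.1
  haveI : IsAffine (chartEV g he).obj.left.left := hV
  obtain ⟨r, n, hn⟩ := (finite_sec M hM (chartEV g he)).exists_fin
  obtain ⟨R, ψ, hR, hψ, hlift⟩ := exists_open_stage hX hqc hqs hP hM φ hO₁ hc₁ hφ (chartEV g he) n
  have hhom : (chartEV g he).obj.hom = g := Category.id_comp g
  obtain ⟨P₂, φ₂, hP₂, hφ₂⟩ := exists_chart_step g he hX hqs hf hR hM ψ hO₁ hc₁ hψ (hhom.symm ▸ hgi) n hn hlift
  refine ⟨P₂, φ₂, hP₂, ?_⟩
  rw [hhom] at hφ₂
  exact hφ₂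

end SubExt
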