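import Groth.Agent.SubExtLib.QuotDiag

/-!
# Quotients of finitely presented modules: the induction
-/

set_option autoImplicit false
set_option backward.isDefEq.respectTransparency false
set_option backward.isDefEq.respectTransparency.types false
universe u
open CategoryTheory CategoryTheory.Limits AlgebraicGeometry Opposite AlgSp TopologicalSpace
open ModEtQc

noncomputable section

namespace SubExt

variable {S : Scheme.{u}} {X : Sp S} {V : Over S}

section Cast

variable {U : Sp S} {f : U ⟶ X} (hf : Representable f)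

/-- Sections of a pushforward. -/
def castP (L : ModEt U) (E : EtOver X) : sec L (EtOver.bcObj hf E) →+ sec ((pushModEt hf).obj L) E where
  toFun s := s
  map_zero' := rfl
  map_add' _ _ := rfl

set_option maxHeartbeats 1600000 in
theorem castP_surjective (L : ModEt U) (E : EtOver X) : Function.Surjective (castP hf L E) := fun y => ⟨y, rfl⟩

theorem castP_injective (L : ModEt U) (E : EtOver X) : Function.Injective (castP hf L E) := fun _ _ h => h

theorem appS_castP {L H : ModEt U} (χ : L ⟶ H) (E : EtOver X) (b : sec L (EtOver.bcObj hf E)) :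
    appS ((pushModEt hf).map χ) E (castP hf L E b) = castP hf H E (appS χ (EtOver.bcObj hf E) b) := rfl

/-- Sections of a restricted pushforward. -/
def castRP (he : IsEtaleMor f) (L : ModEt U) (T : EtOver U) :
    sec L (EtOver.bcObj hf ((EtOver.postcomp f he).obj T)) →+ sec ((resEt he).obj ((pushModEt hf).obj L)) T where
  toFun s := s
  map_zero' := rfl
  map_add' _ _ := rfl

theorem counit_general (he : IsEtaleMor f) (L : ModEt U) (T : EtOver U)
    (b : sec L (EtOver.bcObj hf ((EtOver.postcomp f he).obj T))) :
    appS ((resEtAdj he hf).counit.app L) T (castRP hf he L T b) =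
      res L (postcompEquiv he hf T ((EtOver.postcomp f he).obj T) (𝟙 _)) b := rfl

theorem bijective_push_map {L H : ModEt U} (χ : L ⟶ H) (E : EtOver X)
    (h : Function.Bijective (appS χ (EtOver.bcObj hf E))) : Function.Bijective (appS ((pushModEt hf).map χ) E) := by
  refine ⟨fun y y' e => ?_, fun z => ?_⟩
  · obtain ⟨b, rfl⟩ := castP_surjective hf L E y
    obtain ⟨b', rfl⟩ := castP_surjective hf L E y'
    rw [appS_castP, appS_castP] at e
    exact congrArg _ (h.1 (castP_injective hf H E e))
  · obtain ⟨w, rfl⟩ := castP_surjective hf H E z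
    obtain ⟨b, hb⟩ := h.2 w
    exact ⟨castP hf L E b, (appS_castP hf χ E b).trans (congrArg _ hb)⟩

end Cast

variable (g : (yon S).obj V ⟶ X) (he : IsEtaleMor g) (hf : Representable g)

theorem unit_chart (R : ModEt X) (a : sec R (chartEV g he)) :
    appS ((resEtAdj he hf).unit.app R) (chartEV g he) a =
      castP hf ((resEt he).obj R) (chartEV g he) (pullπ g he hf a) := unit_apply he hf R (chartEV g he) a

set_option maxHeartbeats 1600000 in
/-- Sections over the chart of a restriction. -/
def toRes {G : ModEt X} (z : sec G (chartEV g he)) : sec ((resEt he).obj G) (T0 V) := z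

theorem toRes_castP (L : ModEt ((yon S).obj V)) (b : sec L (EtOver.bcObj hf (chartEV g he))) :
    toRes g he (castP hf L (chartEV g he) b) = castRP hf he L (T0 V) b := rfl

theorem counit_chart (L : ModEt ((yon S).obj V)) (b : sec L (EtOver.bcObj hf (chartEV g he))) :
    appS ((resEtAdj he hf).counit.app L) (T0 V) (toRes g he (castP hf L (chartEV g he) b)) =
      res L (diagMap g he hf) b :=
  (congrArg (appS ((resEtAdj he hf).counit.app L) (T0 V)) (toRes_castP g he hf L b)).trans
    (counit_general hf he L (T0 V) b)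

/-- The comparison on the chart. -/
def kappa {P₂ : ModEt X} {L : ModEt ((yon S).obj V)} (π : P₂ ⟶ (pushModEt hf).obj L) : (resEt he).obj P₂ ⟶ L :=
  (resEt he).map π ≫ (resEtAdj he hf).counit.app L

theorem kappa_apply {P₂ : ModEt X} {L : ModEt ((yon S).obj V)} (π : P₂ ⟶ (pushModEt hf).obj L)
    (z : sec P₂ (chartEV g he)) :
    appS (kappa g he hf π) (T0 V) (toRes g he z) =
      appS ((resEtAdj he hf).counit.app L) (T0 V) (toRes g he (appS π (chartEV g he) z)) := rfl

theorem bijective_kappa {R : ModEt X} {L : ModEt ((yon S).obj V)} (χ : L ⟶ (resEt he).obj R) {O : Set (Points X)}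
    (hO : IsOpen O) (hinj : FiltLib.InjOver (chartEV g he).obj.hom Oᶜ)
    (hχ : ∀ W : EtOver ((yon S).obj V), Below O ((EtOver.postcomp g he).obj W) → Function.Bijective (appS χ W)) :
    Function.Bijective (fun z : sec (fib ((resEtAdj he hf).unit.app R) ((pushModEt hf).map χ)) (chartEV g he) =>
      appS (kappa g he hf (fib₂ ((resEtAdj he hf).unit.app R) ((pushModEt hf).map χ))) (T0 V) (toRes g he z)) ∧
    ∀ z : sec (fib ((resEtAdj he hf).unit.app R) ((pushModEt hf).map χ)) (chartEV g he),
      toRes g he (appS (fib₁ ((resEtAdj he hf).unit.app R) ((pushModEt hf).map χ)) (chartEV g he) z) =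
        appS χ (T0 V)
          (appS (kappa g he hf (fib₂ ((resEtAdj he hf).unit.app R) ((pushModEt hf).map χ))) (T0 V) (toRes g he z)) := by
  have key : ∀ z : sec (fib ((resEtAdj he hf).unit.app R) ((pushModEt hf).map χ)) (chartEV g he), ∃ b,
      appS (fib₂ ((resEtAdj he hf).unit.app R) ((pushModEt hf).map χ)) (chartEV g he) z =
        castP hf L (chartEV g he) b ∧
      appS χ (EtOver.bcObj hf (chartEV g he)) b =
        pullπ g he hf (appS (fib₁ ((resEtAdj he hf).unit.app R) ((pushModEt hf).map χ)) (chartEV g he) z) ∧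
      appS (kappa g he hf (fib₂ ((resEtAdj he hf).unit.app R) ((pushModEt hf).map χ))) (T0 V) (toRes g he z) =
        res L (diagMap g he hf) b ∧
      toRes g he (appS (fib₁ ((resEtAdj he hf).unit.app R) ((pushModEt hf).map χ)) (chartEV g he) z) =
        appS χ (T0 V) (res L (diagMap g he hf) b) := fun z => by
    obtain ⟨b, hb⟩ := castP_surjective hf L (chartEV g he)
      (appS (fib₂ ((resEtAdj he hf).unit.app R) ((pushModEt hf).map χ)) (chartEV g he) z)
    have hc := congrArg (fun ψ => appS ψ (chartEV g he) z) (fib_condition ((resEtAdj he hf).unit.app R)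
      ((pushModEt hf).map χ))
    simp only [appS_comp'] at hc
    rw [unit_chart, ← hb] at hc
    replace hc := hc.trans (appS_castP hf χ (chartEV g he) b)
    have hc' := (castP_injective hf _ _ hc).symm
    refine ⟨b, hb.symm, hc', ?_, ?_⟩
    · rw [kappa_apply, ← hb, counit_chart]
    · rw [appS_res, hc', res_pullπ, postcomp_diagMap, res_id]
      rfl
  refine ⟨⟨fun z z' e => ?_, fun l => ?_⟩, fun z => ?_⟩
  · obtain ⟨b, hb, hχb, hk, hf₁⟩ := key z
    obtain ⟨b', hb', hχb', hk', hf₁'⟩ := key z'
    have e' : res L (diagMap g he hf) b = res L (diagMap g he hf) b' := hk.symm.trans (e.trans hk')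
    have ea : appS (fib₁ ((resEtAdj he hf).unit.app R) ((pushModEt hf).map χ)) (chartEV g he) z =
        appS (fib₁ ((resEtAdj he hf).unit.app R) ((pushModEt hf).map χ)) (chartEV g he) z' :=
      (hf₁.trans (congrArg (appS χ (T0 V)) e')).trans hf₁'.symm
    refine fib_ext _ _ ea (hb.trans ((congrArg _ ?_).trans hb'.symm))
    exact diag_ext g he hf hO hinj χ hχ b b' (hχb.trans ((congrArg _ ea).trans hχb'.symm)) e'
  · obtain ⟨b, hb₁, hb₂⟩ := diag_exists g he hf hO hinj χ hχ l
    obtain ⟨z, -, hz⟩ := fib_mk ((resEtAdj he hf).unit.app R) ((pushModEt hf).map χ)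
      (show sec R (chartEV g he) from appS χ (T0 V) l) (castP hf L (chartEV g he) b)
      ((unit_chart g he hf R _).trans ((congrArg _ hb₁.symm).trans (appS_castP hf χ _ b).symm))
    refine ⟨z, ?_⟩
    change appS _ (T0 V) (toRes g he z) = l
    rw [kappa_apply, hz, counit_chart, hb₂]
  · obtain ⟨b, -, -, hk, hf₁⟩ := key z
    rw [hf₁, hk]

end SubExt
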