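import Groth.Agent.SubExtLib.QuotBase
import Groth.Agent.AlgSpLib.MorPack
import Groth.Agent.FiltLib.Open
import Groth.Agent.AlgSpChevLib.ResPush

/-!
# A finite type quasi-coherent module is a quotient of a finitely presented one
-/

set_option autoImplicit false
set_option backward.isDefEq.respectTransparency false
set_option backward.isDefEq.respectTransparency.types false
universe u
open CategoryTheory CategoryTheory.Limits AlgebraicGeometry Opposite AlgSp TopologicalSpace
open ModEtQc

noncomputable section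

namespace SubExt

variable {S : Scheme.{u}} {X : Sp S}

/-- A map which presents a module on the affine objects over a set of points. -/
def Good {P M : ModEt X} (φ : P ⟶ M) (O : Set (Points X)) : Prop :=
  ∀ E : EtOver X, IsAffine E.obj.left.left → Below O E →
    Module.FinitePresentation (Ring E) (sec P E) ∧ Function.Surjective (appS φ E)

theorem exists_kill_lifts [QuasiSeparatedSpace ↥S] (hX : IsAlgSpace X) (hqc : IsQuasiCompactSp X)
    (hqs : IsQuasiSeparatedSp X) {P M : ModEt X} (hP : BC P) (hM : BC M) (φ : P ⟶ M) {O : Set (Points X)}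
    (hφ : Good φ O) {EV W : EtOver X} [IsAffine EV.obj.left.left] [CompactSpace ↥W.obj.left.left]
    (hW : Below O W) (c : W ⟶ EV) {r : ℕ} (n : Fin r → sec M EV) :
    ∃ (P' : ModEt X) (φ' : P' ⟶ M), BC P' ∧ Good φ' O ∧ ∀ k, ∃ s, appS φ' W s = res M c (n k) := by
  obtain ⟨m, Z, g, hZ, hgc⟩ := exists_finite_cover W
  haveI := hZ
  choose t ht using fun (k : Fin r) (i : Fin m) => (hφ (Z i) (hZ i) (hW.comp (g i))).2 (res M (g i ≫ c) (n k))
  let Y : Fin m → Fin m → EtOver X := fun a b => EtOver.pullbackObj (g a ≫ c) (g b ≫ c)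
  obtain ⟨P', π, φ', hP', hπ, hkill, hfp⟩ := exists_kill hX hqc hqs hP hM φ
    (fun p : Fin r × Fin m × Fin m => Y p.2.1 p.2.2) (fun p => (isPushout_rho _ _).1)
    (fun p => res P (EtOver.pullbackFst _ _) (t p.1 p.2.1) - res P (EtOver.pullbackSnd _ _) (t p.1 p.2.2))
    fun p => by
      rw [map_sub, appS_res, appS_res, ht, ht, ← res_comp, ← res_comp, EtOver.pullback_condition, sub_self]
  have hπφ : ∀ (E : EtOver X) (x : sec P E), appS φ' E (appS π E x) = appS φ E x := fun E x =>
    congrArg (fun ψ => appS ψ E x) hπ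
  refine ⟨P', φ', hP', fun E hE hb => ⟨(hfp E hE).2 (hφ E hE hb).1, fun y => ?_⟩, fun k => ?_⟩
  · obtain ⟨x, hx⟩ := (hφ E hE hb).2 y
    exact ⟨appS π E x, (hπφ E x).trans hx⟩
  · obtain ⟨s, hs⟩ := exists_glue_sec P' Z g hgc (fun i => appS π (Z i) (t k i)) fun a b => by
      obtain ⟨l, hl₁, hl₂⟩ := PullbackCone.IsLimit.lift' (EtOver.pullbackIsLimit (g a ≫ c) (g b ≫ c))
        (EtOver.pullbackFst (g a) (g b)) (EtOver.pullbackSnd (g a) (g b))
        (by rw [← Category.assoc, EtOver.pullback_condition, Category.assoc])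
      change l ≫ EtOver.pullbackFst (g a ≫ c) (g b ≫ c) = _ at hl₁
      change l ≫ EtOver.pullbackSnd (g a ≫ c) (g b ≫ c) = _ at hl₂
      rw [← hl₁, ← hl₂, res_comp, res_comp]
      refine congrArg (res P' l) ?_
      rw [← appS_res, ← appS_res, ← sub_eq_zero, ← map_sub]
      exact hkill (k, a, b)
    refine ⟨s, eq_of_cover M Z g hgc _ _ fun i => ?_⟩
    rw [← appS_res, hs, hπφ, ht, res_comp]

section Open

variable {U : Sp S} {j : U ⟶ X} (he : IsEtaleMor j) (hf : Representable j)

set_option maxHeartbeats 1600000 in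
theorem castPR_surjective (G : ModEt X) (E : EtOver X) : Function.Surjective (castPR he hf G E) :=
  fun y => ⟨y, rfl⟩

theorem exists_inv_pcCounit (hj : RepWith @IsOpenImmersion j) {E : EtOver X}
    (hb : Below (Set.range (Points.map j)) E) :
    ∃ l, l ≫ πT he hf E = 𝟙 E ∧ πT he hf E ≫ l = 𝟙 _ := by
  haveI := AlgSpLib.mono_of_openImmersion hj
  obtain ⟨f, hff⟩ := (AlgSpLib.exists_factor_iff hj E.obj.hom).2 (by
    rintro _ ⟨x, rfl⟩
    obtain ⟨y, rfl⟩ := (Points.schemeHomeo E.obj.left).surjective x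
    have h := hb y
    rw [Points.ofPt_eq_map_ofScheme] at h
    exact h)
  have hw : f ≫ j = (yon S).map (𝟙 E.obj.left) ≫ E.obj.hom := by
    rw [hff, CategoryTheory.Functor.map_id, Category.id_comp]
  let q := hf.lift f (𝟙 E.obj.left) hw
  let l : E ⟶ (EtOver.postcomp j he).obj (EtOver.bcObj hf E) := EtOver.homMk q (by
    change (yon S).map q ≫ (hf.fst E.obj.hom ≫ j) = E.obj.hom
    rw [← Category.assoc, hf.lift_fst, hff])
  refine ⟨l, EtOver.hom_ext _ _ ?_, EtOver.hom_ext _ _ ?_⟩
  · change q ≫ hf.snd E.obj.hom = 𝟙 E.obj.left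
    rw [hf.lift_snd]
  · change hf.snd E.obj.hom ≫ q = 𝟙 _
    refine hf.hom_ext ?_ ?_
    · rw [← cancel_mono j, Functor.map_comp, Category.assoc, Category.assoc, ← Category.assoc ((yon S).map q),
        hf.lift_fst, hff, CategoryTheory.Functor.map_id]
      exact (hf.w E.obj.hom).symm.trans (congrArg (· ≫ j) (Category.id_comp _).symm)
    · rw [Category.assoc, hf.lift_snd, Category.comp_id]
      exact (Category.id_comp _).symm

theorem bijective_unit (hj : RepWith @IsOpenImmersion j) (G : ModEt X) {E : EtOver X}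
    (hb : Below (Set.range (Points.map j)) E) : Function.Bijective (appS ((resEtAdj he hf).unit.app G) E) := by
  obtain ⟨l, h₁, h₂⟩ := exists_inv_pcCounit he hf hj hb
  have hres : Function.Bijective (res G (πT he hf E)) :=
    Function.bijective_iff_has_inverse.2 ⟨fun y => res G l y,
      fun x => (res_comp G (πT he hf E) l x).symm.trans ((res_congr G h₁ x).trans (res_id G E x)),
      fun y => (res_comp G l (πT he hf E) y).symm.trans ((res_congr G h₂ y).trans (res_id G _ y))⟩
  have e : ⇑(appS ((resEtAdj he hf).unit.app G) E) = ⇑(castPR he hf G E) ∘ ⇑(res G (πT he hf E)) :=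
    funext fun x => unit_apply he hf G E x
  rw [e]
  exact Function.Bijective.comp ⟨castPR_injective he hf G E, castPR_surjective he hf G E⟩ hres

theorem below_pcCounit (E : EtOver X) :
    Below (Set.range (Points.map j)) ((EtOver.postcomp j he).obj (EtOver.bcObj hf E)) := fun x =>
  ⟨_, Points.map_ofPt (EtOver.bcObj hf E).obj.hom j x⟩

theorem unit_natural {G H : ModEt X} (φ : G ⟶ H) (E : EtOver X) (x : sec G E) :
    appS ((pushModEt hf).map ((resEt he).map φ)) E (appS ((resEtAdj he hf).unit.app G) E x) =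
      appS ((resEtAdj he hf).unit.app H) E (appS φ E x) :=
  congrArg (fun ψ => appS ψ E x) ((resEtAdj he hf).unit.naturality φ).symm

/-- Sections of a module presented on an open subspace. -/
def secEquiv (hj : RepWith @IsOpenImmersion j) {P M : ModEt X} (φ : P ⟶ M) {E : EtOver X}
    (hb : Below (Set.range (Points.map j)) E) :
    sec P E ≃ₗ[Ring E] sec (fib ((pushModEt hf).map ((resEt he).map φ)) ((resEtAdj he hf).unit.app M)) E :=
  (LinearEquiv.ofBijective (appS ((resEtAdj he hf).unit.app P) E) (bijective_unit he hf hj P hb)).trans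
    (LinearEquiv.ofBijective _ (bijective_fib₁ ((pushModEt hf).map ((resEt he).map φ))
      ((resEtAdj he hf).unit.app M) E (bijective_unit he hf hj M hb))).symm

theorem appS_push_map {G H : ModEt X} (φ : G ⟶ H) (E : EtOver X)
    (x : sec G ((EtOver.postcomp j he).obj (EtOver.bcObj hf E))) :
    appS ((pushModEt hf).map ((resEt he).map φ)) E (castPR he hf G E x) =
      castPR he hf H E (appS φ ((EtOver.postcomp j he).obj (EtOver.bcObj hf E)) x) := rfl

end Open

theorem exists_open_stage [QuasiSeparatedSpace ↥S] (hX : IsAlgSpace X) (hqc : IsQuasiCompactSp X)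
    (hqs : IsQuasiSeparatedSp X) {P M : ModEt X} (hP : BC P) (hM : BC M) (φ : P ⟶ M) {O : Set (Points X)}
    (hO : IsOpen O) (hc : IsCompact O) (hφ : Good φ O) (EV : EtOver X) [IsAffine EV.obj.left.left] {r : ℕ}
    (n : Fin r → sec M EV) :
    ∃ (R : ModEt X) (ψ : R ⟶ M), BC R ∧ Good ψ O ∧ ∀ k, ∃ x, appS ψ EV x = n k := by
  let Xs : AlgSp.Space S := ⟨X, hX⟩
  let j := (FiltLib.openSpaceι Xs O hO).hom
  have hj : RepWith @IsOpenImmersion j := FiltLib.repWith_openSpaceι Xs hO
  have hr : Set.range (Points.map j) = O := FiltLib.range_openSpaceι Xs hO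
  have hU := (FiltLib.openSpace Xs O hO).property
  have he : IsEtaleMor j := AlgSpLib.isEtaleMor_of_openImmersion hj
  let hf : Representable j := hj.1
  haveI := AlgSpLib.mono_of_openImmersion hj
  have hjc : IsQuasiCompactMor j := AlgSpLib.isQuasiCompactMor_of_qcSp_qsSp hU hX j
    (FiltLib.isQuasiCompactSp_of_isCompact_range hU hj (hr.symm ▸ hc)) hqs
  have hjs : IsQuasiSeparatedMor j :=
    AlgSpLib.isQuasiSeparatedMor_of_isSeparatedMor (AlgSpLib.repWith_of_isIso (pullback.diagonal j))
  haveI : CompactSpace ↥((EtOver.postcomp j he).obj (EtOver.bcObj hf EV)).obj.left.left :=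
    (qcqs_bcObj hf hjc hjs EV).1
  obtain ⟨P', φ', hP', hφ', hs⟩ := exists_kill_lifts hX hqc hqs hP hM φ hφ
    (W := (EtOver.postcomp j he).obj (EtOver.bcObj hf EV)) (fun x => hr.le (below_pcCounit he hf EV x)) (πT he hf EV) n
  let u₁ := (pushModEt hf).map ((resEt he).map φ')
  let u₂ := (resEtAdj he hf).unit.app M
  have hBC : ∀ G : ModEt X, BC G → BC ((pushModEt hf).obj ((resEt he).obj G)) := fun G hG =>
    bc_push hf _ (bc_resEt he G hG) fun E hE => by
      haveI := hE
      exact qcqs_bcObj hf hjc hjs E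
  refine ⟨fib u₁ u₂, fib₂ u₁ u₂, bc_fib u₁ u₂ (hBC P' hP') hM (hBC M hM), fun E hE hb => ?_, fun k => ?_⟩
  · have hb' : Below (Set.range (Points.map j)) E := hr.symm ▸ hb
    haveI := (hφ' E hE hb).1
    refine ⟨Module.FinitePresentation.of_equiv (secEquiv he hf hj φ' hb'), fun y => ?_⟩
    obtain ⟨p, hp⟩ := (hφ' E hE hb).2 y
    obtain ⟨x, -, hx⟩ := fib_mk u₁ u₂ (appS ((resEtAdj he hf).unit.app P') E p) y
      ((unit_natural he hf φ' E p).trans (congrArg (appS u₂ E) hp))
    exact ⟨x, hx⟩
  · obtain ⟨s, hs⟩ := hs k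
    obtain ⟨x, -, hx⟩ := fib_mk u₁ u₂ (E := EV) (castPR he hf P' EV s) (n k)
      ((appS_push_map he hf φ' EV s).trans
        ((congrArg (castPR he hf M EV) hs).trans (unit_apply he hf M EV (n k)).symm))
    exact ⟨x, hx⟩

end SubExt
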